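import Mathlib
import Cfsg.Agent.Characters.Core

/-!
# Descent of irreducible characters along surjective homomorphisms, and the panel action (helper829, S4913)

* `isIrr_of_comp_surj` : `χ ∘ f` irreducible, `f` surjective, gives `χ` irreducible;
* `Pan` : a subgroup of `G × GL₂(F)` whose elements `(1, γ)` have scalar `γ`; `Pan.psi Ψ` : the function on `G` given by a
  function `Ψ` on `GL₂(F)` invariant under scalars; `Pan.irr` : it restricts to an irreducible character of every
  subgroup covering `GL₂(F)`.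
-/

set_option autoImplicit false

open scoped ComplexConjugate
open Cfsg

namespace Cfsg.Agent.H829.GowDesc

open Cfsg.Agent.Characters Cfsg.Agent.Characters.Core

section Desc

/-- summing a function of the image over a group -/
theorem sum_comp_surj {L U : Type*} [Group L] [Group U] [Fintype L] [Fintype U] (f : L →* U)
    (hf : Function.Surjective f) (F : U → ℂ) : ∑ l : L, F (f l) = (Nat.card f.ker : ℂ) * ∑ u : U, F u := by
  classical
  rw [← Finset.sum_fiberwise_of_maps_to (s := (Finset.univ : Finset L)) (t := (Finset.univ : Finset U))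
      (g := fun x : L => f x) (fun _ _ => Finset.mem_univ _), Finset.mul_sum]
  refine Finset.sum_congr rfl fun u _ => ?_
  rw [Finset.sum_congr rfl (g := fun _ => F u) (fun x hx => by rw [(Finset.mem_filter.1 hx).2]), Finset.sum_const,
    nsmul_eq_mul]
  congr 2
  obtain ⟨y, rfl⟩ := hf u
  rw [Nat.card_eq_fintype_card, ← Fintype.card_coe]
  refine Fintype.card_congr ⟨fun x => ⟨y⁻¹ * x.1, ?_⟩, fun s => ⟨y * s.1, ?_⟩, ?_, ?_⟩
  · have := (Finset.mem_filter.1 x.2).2
    rw [MonoidHom.mem_ker, map_mul, map_inv, this, inv_mul_cancel]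
  · rw [Finset.mem_filter]
    refine ⟨Finset.mem_univ _, ?_⟩
    rw [map_mul, (MonoidHom.mem_ker).1 s.2, mul_one]
  · intro x; simp
  · intro x; simp

theorem classInner_comp_surj {H G : Type*} [Group H] [Group G] [Fintype H] [Fintype G] (f : H →* G)
    (hf : Function.Surjective f) (α β : G → ℂ) : classInner (α ∘ f) (β ∘ f) = classInner α β := by
  rw [classInner_def, classInner_def]
  have h1 := sum_comp_surj f hf (fun g => α g * conj (β g))
  have h2 : Nat.card H = Nat.card f.ker * Nat.card G := by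
    rw [← Subgroup.card_mul_index f.ker, Subgroup.index_ker, MonoidHom.range_eq_top.2 hf, Subgroup.card_top]
  have h3 : (Nat.card f.ker : ℂ) ≠ 0 := by exact_mod_cast Nat.card_pos.ne'
  have h4 : (Nat.card G : ℂ) ≠ 0 := by exact_mod_cast Nat.card_pos.ne'
  show (Nat.card H : ℂ)⁻¹ * ∑ l : H, α (f l) * conj (β (f l)) = _
  rw [h1, h2]
  push_cast
  field_simp

/-- **Descent.** -/
theorem isIrr_of_comp_surj {H G : Type*} [Group H] [Group G] [Finite H] [Finite G] (f : H →* G)
    (hf : Function.Surjective f) (χ : G → ℂ) (h : IsIrrCharacter H (χ ∘ f)) : IsIrrCharacter G χ := by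
  classical
  have := Fintype.ofFinite H
  have := Fintype.ofFinite G
  have := finite_irr (G := G)
  have := Fintype.ofFinite (IrrCharacter G)
  have hc : IsClassFunction G χ := by
    intro g x
    obtain ⟨g, rfl⟩ := hf g
    obtain ⟨x, rfl⟩ := hf x
    have h1 := isIrr_isClassFunction h g x
    simp only [Function.comp_apply, map_mul, map_inv] at h1
    exact h1
  have h1 := classFunction_eq_sum hc
  have key : ∀ φ : IrrCharacter G, ∃ n : ℕ, classInner χ (φ : G → ℂ) = n := by
    intro φ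
    rw [← classInner_comp_surj f hf]
    exact classInner_isNat (isIrr_isCharacter h) (isIrr_isCharacter (isIrr_comp f hf φ.2))
  choose m hm using key
  have h2 : IsCharacter G χ := by
    rw [isCharacter_iff]
    refine ⟨m, ?_⟩
    conv_lhs => rw [h1]
    refine Finset.sum_congr rfl fun φ _ => ?_
    rw [hm φ, Nat.cast_smul_eq_nsmul]
  refine isIrr_of_classInner_self h2 ?_
  rw [← classInner_comp_surj f hf]
  exact classInner_irr_self h

end Desc

section Pan

variable {G : Type*} [Group G] {F : Type*} [Field F]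

/-- A subgroup of `G × GL₂(F)` containing the scalars and with no further elements `(1, γ)`. -/
structure Pan (H : Subgroup (G × GL (Fin 2) F)) : Prop where
  scalar : ∀ c : Fˣ, ((1 : G), Matrix.GeneralLinearGroup.scalar (Fin 2) c) ∈ H
  ker : ∀ γ : GL (Fin 2) F, ((1 : G), γ) ∈ H → ∃ c : Fˣ, γ = Matrix.GeneralLinearGroup.scalar (Fin 2) c

variable {H : Subgroup (G × GL (Fin 2) F)}

open Classical in
/-- the function on `G` -/
noncomputable def psi (H : Subgroup (G × GL (Fin 2) F)) (Ψ : GL (Fin 2) F → ℂ) (g : G) : ℂ :=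
  if h : ∃ γ, (g, γ) ∈ H then Ψ h.choose else 0

theorem Pan.psi_eq (hH : Pan H) {Ψ : GL (Fin 2) F → ℂ}
    (hs : ∀ (c : Fˣ) g, Ψ (Matrix.GeneralLinearGroup.scalar (Fin 2) c * g) = Ψ g) {g : G} {γ : GL (Fin 2) F}
    (h : (g, γ) ∈ H) : psi H Ψ g = Ψ γ := by
  have h1 : ∃ γ, (g, γ) ∈ H := ⟨γ, h⟩
  rw [psi, dif_pos h1]
  obtain ⟨c, hc⟩ := hH.ker (h1.choose * γ⁻¹) (by
    have h2 := mul_mem h1.choose_spec (inv_mem h)
    rw [Prod.inv_mk, Prod.mk_mul_mk, mul_inv_cancel] at h2
    exact h2)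
  rw [mul_inv_eq_iff_eq_mul] at hc
  rw [hc, hs]

/-- **The character is irreducible on every subgroup covering `GL₂(F)`.** -/
theorem Pan.irr [Finite G] [Finite F] (hH : Pan H) {Ψ : GL (Fin 2) F → ℂ} (hΨ : IsIrrCharacter (GL (Fin 2) F) Ψ)
    (hs : ∀ (c : Fˣ) g, Ψ (Matrix.GeneralLinearGroup.scalar (Fin 2) c * g) = Ψ g) (L : Subgroup G)
    (h1 : ∀ l ∈ L, ∃ γ, (l, γ) ∈ H) (h2 : ∀ γ, ∃ l ∈ L, (l, γ) ∈ H) :
    IsIrrCharacter L (fun l : L => psi H Ψ l) := by
  let HL : Subgroup (G × GL (Fin 2) F) := H ⊓ L.comap (MonoidHom.fst G (GL (Fin 2) F))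
  let f1 : HL →* L :=
    { toFun := fun p => ⟨p.1.1, p.2.2⟩
      map_one' := rfl
      map_mul' := fun _ _ => rfl }
  let f2 : HL →* GL (Fin 2) F := (MonoidHom.snd G (GL (Fin 2) F)).comp HL.subtype
  have hf1 : Function.Surjective f1 := by
    rintro ⟨l, hl⟩
    obtain ⟨γ, hγ⟩ := h1 l hl
    exact ⟨⟨(l, γ), hγ, hl⟩, rfl⟩
  have hf2 : Function.Surjective f2 := by
    intro γ
    obtain ⟨l, hl, hγ⟩ := h2 γ
    exact ⟨⟨(l, γ), hγ, hl⟩, rfl⟩
  refine isIrr_of_comp_surj f1 hf1 _ ?_
  have h3 : (fun l : L => psi H Ψ l) ∘ f1 = Ψ ∘ f2 := by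
    funext p
    exact hH.psi_eq hs p.2.1
  rw [h3]
  exact isIrr_comp f2 hf2 hΨ

end Pan

end Cfsg.Agent.H829.GowDesc
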