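import Mathlib
import Cfsg.Agent.S2126
import Cfsg.Agent.CpAut.Base
import Cfsg.Agent.KFacts.TwF4.OutTwo
import Cfsg.Agent.KFacts.TwF4.Full
import Cfsg.Prelude.Def_LieTwisted

/-!
# The automorphisms of order two of `Sz(q)` and `²F₄(q)` are inner
-/

set_option autoImplicit false

namespace Cfsg.Agent.H829.SzTwF

open Cfsg Cfsg.Lie
open Cfsg.Agent.KFacts.TwF4

universe u v

/-- inner automorphisms: transport -/
theorem inner_congr {X : Type u} {Y : Type v} [Group X] [Group Y] (e : X ≃* Y)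
    (h : ∀ x : MulAut X, x ^ 2 = 1 → ∃ g : X, x = MulAut.conj g) {y : MulAut Y} (hy : y ^ 2 = 1) :
    ∃ g : Y, y = MulAut.conj g := by
  obtain ⟨g, hg⟩ := h ((MulAut.congr e).symm y) (by rw [← map_pow, hy, map_one])
  refine ⟨e g, ?_⟩
  have h1 : y = MulAut.congr e (MulAut.conj g) := by rw [← hg, MulEquiv.apply_symm_apply]
  rw [h1]
  ext b
  change e (g * e.symm b * g⁻¹) = e g * b * (e g)⁻¹
  rw [map_mul, map_mul, e.apply_symm_apply, map_inv]

/-- **`Sz(q)`** -/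
theorem inner_sz {K : Type u} [Group K] (h : IsoSuzuki K) {x : MulAut K} (hx : x ^ 2 = 1) :
    ∃ g : K, x = MulAut.conj g := by
  obtain ⟨F, _, _, m, hm, hF, ⟨e⟩⟩ := h
  refine inner_congr e.symm (fun y hy => ?_) hx
  have h1 := Cfsg.Agent.S2126.result (F := F) hm hF
  have hy2 : (QuotientGroup.mk y : Cfsg.Out ↥(Cfsg.Lie.Sz F (2 ^ (m + 1)))) ^ 2 = 1 := by
    rw [← QuotientGroup.mk_pow, hy, QuotientGroup.mk_one]
  have h2 := orderOf_dvd_of_pow_eq_one hy2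
  have h3 := orderOf_dvd_natCard (QuotientGroup.mk y : Cfsg.Out ↥(Cfsg.Lie.Sz F (2 ^ (m + 1))))
  rw [h1] at h3
  have h4 : orderOf (QuotientGroup.mk y : Cfsg.Out ↥(Cfsg.Lie.Sz F (2 ^ (m + 1)))) = 1 := by
    have h5 := Nat.dvd_gcd h2 h3
    have h6 : Nat.gcd 2 (2 * m + 1) = 1 := by
      rw [← Nat.coprime_iff_gcd_eq_one, Nat.coprime_two_left]
      exact ⟨m, rfl⟩
    rw [h6] at h5
    exact Nat.dvd_one.1 h5
  rw [orderOf_eq_one_iff] at h4
  obtain ⟨g, hg⟩ := (QuotientGroup.eq_one_iff y).1 h4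
  exact ⟨g, hg.symm⟩

/-- **`²F₄(q)`**, `q ≥ 8` -/
theorem inner_twF4 {K : Type u} [Group K] (h : Iso2F4 K) {x : MulAut K} (hx : x ^ 2 = 1) :
    ∃ g : K, x = MulAut.conj g := by
  obtain ⟨F, _, _, m, hm, hK, ⟨e⟩⟩ := h
  refine inner_congr e.symm (fun y hy => ?_) hx
  obtain ⟨φ, hφ⟩ := Cfsg.Agent.ChevalleyStructure.TwF4.TwistedFix.exists_rln hK
  have := Cfsg.Agent.ChevalleyStructure.TwF4.Twisted.charP_two hK
  have hfin : Finite ↥(twistedF4 F (2 ^ m)) := inferInstance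
  have hF : ∃ c : Fˣ, c ≠ 1 := by
    have h1 : 1 < Nat.card Fˣ := by
      rw [Nat.card_units, Nat.card_eq_fintype_card, hK]
      have : 2 ^ 3 ≤ 2 ^ (2 * m + 1) := Nat.pow_le_pow_right (by norm_num) (by omega)
      omega
    have h2 : Nontrivial Fˣ := Finite.one_lt_card_iff_nontrivial.1 h1
    exact exists_ne 1
  exact Cfsg.Agent.KFacts.TwF4.OutTwo.inner (Cfsg.Agent.KFacts.TwF4.Inst.full hK hφ)
    (m := m) (by rw [Nat.card_eq_fintype_card, hK]) hF rfl (n := 1) (by rw [pow_one]; exact hy)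

end Cfsg.Agent.H829.SzTwF
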