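import Mathlib
import Cfsg.Agent.H829.ConjTwo
import Cfsg.Agent.H829.OddOver
import Cfsg.Agent.CpAut.RgdUntw
import Cfsg.Agent.ChevalleyStructure.HDiag

/-!
# Automorphisms of order two of the untwisted groups in characteristic two

`K` a finite field of characteristic `2`, `D` one of the seven tabulated types, `x` an automorphism of `D.group K` with
`x ^ 2 = 1`:

* `oddOver_fix` : the fixed subgroup of a frame automorphism of `p`-power order (`p = 2`) with trivial diagram symmetry;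
* `untw` : `x` is inner, or of field type (conjugate to the standard field automorphism `fld D τ`; the fixed subgroup has
  a normal subgroup of odd index isomorphic to `D.group K₀`, `|K| = |K₀|²`), or has a nontrivial diagram symmetry.
-/

set_option autoImplicit false
set_option linter.unusedSectionVars false

namespace Cfsg.Agent.H829.FieldTwo

open CoxeterSystem Cfsg.Agent.ChevalleyStructure.CoxeterGeom Cfsg.Agent.Tits.Roots Cfsg.Agent.Tits.Core
  Cfsg.Agent.Nodes.Reps Cfsg.Agent.Nodes.BNOf Cfsg.Agent.Nodes.Bruhat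
  Cfsg.Agent.Nodes.OppDec Cfsg.Agent.Nodes.RGDChev
  Cfsg.Agent.KFacts.RgdAut Cfsg.Agent.KFacts.RgdDiag Cfsg.Agent.KFacts.RgdRigid
  Cfsg.Agent.KFacts.RgdField Cfsg.Agent.KFacts.RgdTau Cfsg.Agent.KFacts.RgdChevCoord
  Cfsg.Agent.CpAut.RgdFix Cfsg.Agent.CpAut.RgdCoh Cfsg.Agent.CpAut.RgdConj Cfsg.Agent.CpAut.RgdSub
open Cfsg.Lie Cfsg.Agent.ChevalleyStructure Cfsg.Agent.ChevalleyStructure.Elts
  Cfsg.Agent.ChevalleyStructure.NPerm Cfsg.Agent.ChevalleyStructure.CoxeterGeomTypes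
  Cfsg.Agent.ChevStructure.FieldMap Cfsg.Agent.CpAut.RgdUntw
open scoped commutatorElement

universe u

section General

variable {I W Y : Type*} [Fintype I] [DecidableEq I] [Group W] [Group Y] {M : CoxeterMatrix I}
  {cs : CoxeterSystem M W} {A : I → I → ℤ} {h : IsCartan M A} {T : Subgroup Y} {n : I → Y}
  {X : (I → ℤ) → Subgroup Y}

/-- **The fixed subgroup of a frame automorphism of `2`-power order** with trivial diagram symmetry. -/
theorem oddOver_fix (R : RGD cs h 2 T n X) [Finite W] [Finite Y]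
    (hT : ∀ s ∈ T, ∀ t ∈ T, s * t = t * s) (hG : GG cs h T X = ⊤) {β : MulAut Y}
    (D : Diag T X β 1) {m : ℕ} (hβ : β ^ 2 ^ m = 1) :
    OddOver ↥(fixedSubgroup β) ↥(DD cs h X β) := by
  have : Fact (Nat.Prime 2) := ⟨Nat.prime_two⟩
  have hN := DD_normal R hG D hβ
  refine ⟨(DD cs h X β).subgroupOf (fixedSubgroup β), hN, not_dvd_index R hG D hβ, ?_,
    ⟨Subgroup.subgroupOfEquivOfLe DD_le_fix⟩⟩
  have key : ∀ x : ↥(fixedSubgroup β) ⧸ (DD cs h X β).subgroupOf (fixedSubgroup β),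
      ∃ t ∈ T, ∃ ht : t ∈ fixedSubgroup β, x = QuotientGroup.mk ⟨t, ht⟩ := by
    intro x
    obtain ⟨g, rfl⟩ := QuotientGroup.mk_surjective x
    obtain ⟨d, hd, t, ht, htf, e⟩ := exists_of_fix R D hβ (g := (g : Y)) (by rw [hG]; exact Subgroup.mem_top _) g.2
    have htm : t ∈ fixedSubgroup β := htf
    refine ⟨t, ht, htm, ?_⟩
    have h2 : g = ⟨d, DD_le_fix hd⟩ * ⟨t, htm⟩ := Subtype.ext e
    have h3 : (QuotientGroup.mk ⟨d, DD_le_fix hd⟩ : ↥(fixedSubgroup β) ⧸
        (DD cs h X β).subgroupOf (fixedSubgroup β)) = 1 := (QuotientGroup.eq_one_iff _).2 hd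
    rw [h2, QuotientGroup.mk_mul, h3, one_mul]
  intro a b
  obtain ⟨s, hs, hsf, rfl⟩ := key a
  obtain ⟨t, ht, htf, rfl⟩ := key b
  rw [← QuotientGroup.mk_mul, ← QuotientGroup.mk_mul]
  congr 1
  apply Subtype.ext
  exact hT s hs t ht

end General

variable {D : ChevalleyDatum} {l : ℕ} {M : CoxeterMatrix (Fin l)} (hp : IsType D l M) {K : Type u} [Field K]

include hp in
theorem diag_comm {s t : GL D.Idx K} (hs : s ∈ D.diagonalSubgroup K) (ht : t ∈ D.diagonalSubgroup K) :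
    s * t = t * s :=
  HDiag.mul_comm_of_mem D hp.inList hs ht

/-- `x` has a nontrivial diagram symmetry -/
def GraphType (hp : IsType D l M) (K : Type u) [Field K] (x : MulAut ↥(D.group K)) : Prop :=
  ∃ (g u : ↥(D.group K)) (β : MulAut ↥(D.group K)) (σ : Equiv.Perm (Fin l)),
    u ∈ RGD.Sup (XX D l K) (RGD.Pos M.toCoxeterSystem hp.isCartan) ∧ σ ≠ 1 ∧ σ ^ 2 = 1 ∧
      (∀ i j, M (σ i) (σ j) = M i j) ∧ Diag (TT D K) (XX D l K) β σ ∧
      Fix β (RGD.Sup (XX D l K) (RGD.Pos M.toCoxeterSystem hp.isCartan)) ∧ β ^ 2 = 1 ∧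
      x = MulAut.conj g * (MulAut.conj u * β) * (MulAut.conj g)⁻¹

/-- `x` is of field type -/
def FieldType (D : ChevalleyDatum) (K : Type u) [Field K] (x : MulAut ↥(D.group K)) : Prop :=
  ∃ τ : K ≃+* K, τ ^ 2 = 1 ∧ τ ≠ 1 ∧ (∃ e : MulAut ↥(D.group K), x = e * fld D τ * e⁻¹) ∧
    OddOver ↥(fixedSubgroup x) ↥(D.group ↥(fixF τ))

include hp in
/-- **The automorphisms with `x ^ 2 = 1` of `D.group K`**, `K` of characteristic `2`. -/
theorem untw [Finite K] [CharP K 2] [IsSimpleGroup ↥(D.group K)]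
    (hc : ∃ a b : ↥(D.group K), a * b ≠ b * a) {x : MulAut ↥(D.group K)} (hx : x ^ 2 = 1) :
    (∃ g, x = MulAut.conj g) ∨ FieldType D K x ∨ GraphType hp K x := by
  have : Fact (Nat.Prime 2) := ⟨Nat.prime_two⟩
  have hW := finite_W hp (M.toCoxeterSystem)
  have R := rgd (K := K) hp M.toCoxeterSystem 2
  have hG1 : RGD.Sup (XX D l K) {x | IsRoot M.toCoxeterSystem hp.isCartan x} = ⊤ := G1_eq_top hp M.toCoxeterSystem
  have hl : Nonempty (Fin l) := by
    rw [← Fin.pos_iff_nonempty]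
    rcases Nat.eq_zero_or_pos l with h0 | h0
    · exfalso
      obtain ⟨a, b, hab⟩ := hc
      subst h0
      have h1 : (⊤ : Subgroup ↥(D.group K)) = ⊥ := by
        rw [← hG1, eq_bot_iff]
        refine RGD.Sup_le fun x hx => ?_
        obtain ⟨w, i, -⟩ := hx
        exact i.elim0
      apply hab
      have h2 : ∀ g : ↥(D.group K), g = 1 := fun g => by
        have : g ∈ (⊤ : Subgroup ↥(D.group K)) := Subgroup.mem_top g
        rwa [h1, Subgroup.mem_bot] at this
      rw [h2 a, h2 b]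
    · exact h0
  have hconn := KFacts.RgdLieCharP.conn_of_simple R hG1 (KFacts.RgdLieCharP.center_eq_bot hc)
  have C := coords (K := K) hp M.toCoxeterSystem 2
  have H := coroots (K := K) hp M.toCoxeterSystem 2
  rcases ConjTwo.trichotomy R hG1 C H hconn hx with ⟨g, rfl⟩ | ⟨τ, hτ, hτ1, h1⟩ | h1
  · exact Or.inl ⟨g, rfl⟩
  · right
    left
    have hstd : ∀ r, IsRoot M.toCoxeterSystem hp.isCartan r → ∀ a, fld D τ (xc hp r a) = xc hp r (τ a) := by
      intro r hr a
      obtain ⟨s, hs, rfl⟩ := (isRoot_iff hp M.toCoxeterSystem r).1 hr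
      exact fld_xc hp τ hs a
    have S := tau_of_std R hG1 C H hconn hstd
    have hφ : fld D τ ^ 2 = 1 := by rw [← fld_pow, hτ, fld_one]
    obtain ⟨e, he⟩ := h1 (fld D τ) hφ S
    have hφ' : fld D τ ^ 2 ^ 1 = 1 := by rw [pow_one]; exact hφ
    obtain ⟨f⟩ := DD_equiv hp M.toCoxeterSystem 2 τ
    refine ⟨τ, hτ, hτ1, ⟨e, he⟩, OddOver.conj he ?_⟩
    refine (oddOver_fix R ?_ (GG_eq_top (T := TT D K) hG1) S.diag hφ').trans_equiv f
    intro s hs t ht
    exact Subtype.ext (diag_comm hp (Subgroup.mem_subgroupOf.1 hs) (Subgroup.mem_subgroupOf.1 ht))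
  · right
    right
    exact h1

end Cfsg.Agent.H829.FieldTwo
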