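import Mathlib
import Cfsg.Agent.H829.FieldTwo

/-!
# Automorphisms of order two of `G₂(q)`, `F₄(q)`, `E₆(q)`, `E₇(q)`, `E₈(q)`, `q` even

* `field_G2`, `field_E7`, `field_E8` : an automorphism `x` with `x ^ 2 = 1` is inner or of field type;
* `field_F4`, `field_E6` : or of graph type;
-/

set_option autoImplicit false
set_option linter.unusedSectionVars false

namespace Cfsg.Agent.H829.FieldTwo

open CoxeterSystem Cfsg.Agent.ChevalleyStructure.CoxeterGeom Cfsg.Agent.Tits.Roots Cfsg.Agent.Tits.Core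
  Cfsg.Agent.Nodes.Reps Cfsg.Agent.Nodes.BNOf Cfsg.Agent.Nodes.Bruhat
  Cfsg.Agent.Nodes.OppDec Cfsg.Agent.Nodes.RGDChev
  Cfsg.Agent.KFacts.RgdAut Cfsg.Agent.KFacts.RgdDiag Cfsg.Agent.KFacts.RgdRigid
  Cfsg.Agent.KFacts.RgdField Cfsg.Agent.KFacts.RgdTau Cfsg.Agent.KFacts.RgdChevCoord
  Cfsg.Agent.CpAut.RgdFix Cfsg.Agent.CpAut.RgdCoh Cfsg.Agent.CpAut.RgdConj Cfsg.Agent.CpAut.RgdSub
open Cfsg.Lie Cfsg.Agent.ChevalleyStructure Cfsg.Agent.ChevalleyStructure.Elts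
  Cfsg.Agent.ChevalleyStructure.NPerm Cfsg.Agent.ChevalleyStructure.CoxeterGeomTypes
  Cfsg.Agent.ChevStructure.FieldMap Cfsg.Agent.CpAut.RgdUntw
open scoped commutatorElement

universe u

/-! ### the symmetries of the diagrams -/

theorem sym_one {l : ℕ} {M : CoxeterMatrix (Fin l)} {g : Fin l → ℕ}
    (hg : ∀ σ : Equiv.Perm (Fin l), (∀ i j, M (σ i) (σ j) = M i j) → ∀ i, g (σ i) = g i)
    (hf : ∀ i j, g i = g j → i = j) (σ : Equiv.Perm (Fin l)) (hσ : ∀ i j, M (σ i) (σ j) = M i j) : σ = 1 := by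
  ext i
  rw [Equiv.Perm.one_apply, hf _ _ (hg σ hσ i)]

theorem sym_E7 (σ : Equiv.Perm (Fin 7)) (hσ : ∀ i j, CoxeterMatrix.E₇ (σ i) (σ j) = CoxeterMatrix.E₇ i j) :
    σ = 1 := by
  have h1 : ∀ i, (![1, 1, 2, 3, 2, 2, 1] : Fin 7 → ℕ) (σ i) = (![1, 1, 2, 3, 2, 2, 1] : Fin 7 → ℕ) i :=
    inv_step hσ (g := fun _ => 1) (fun _ => rfl) (by decide)
  have h2 : ∀ i, (![2, 3, 4, 5, 5, 3, 2] : Fin 7 → ℕ) (σ i) = (![2, 3, 4, 5, 5, 3, 2] : Fin 7 → ℕ) i :=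
    inv_step hσ h1 (by decide)
  have h3 : ∀ i, (![4, 5, 7, 12, 8, 7, 3] : Fin 7 → ℕ) (σ i) = (![4, 5, 7, 12, 8, 7, 3] : Fin 7 → ℕ) i :=
    inv_step hσ h2 (by decide)
  refine sym_one (M := CoxeterMatrix.E₇) (g := ![4, 5, 7, 12, 8, 7, 3] + 100 • ![2, 3, 4, 5, 5, 3, 2])
    (fun τ hτ => ?_) (by decide) σ hσ
  have h1 : ∀ i, (![1, 1, 2, 3, 2, 2, 1] : Fin 7 → ℕ) (τ i) = (![1, 1, 2, 3, 2, 2, 1] : Fin 7 → ℕ) i :=
    inv_step hτ (g := fun _ => 1) (fun _ => rfl) (by decide)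
  have h2 : ∀ i, (![2, 3, 4, 5, 5, 3, 2] : Fin 7 → ℕ) (τ i) = (![2, 3, 4, 5, 5, 3, 2] : Fin 7 → ℕ) i :=
    inv_step hτ h1 (by decide)
  have h3 : ∀ i, (![4, 5, 7, 12, 8, 7, 3] : Fin 7 → ℕ) (τ i) = (![4, 5, 7, 12, 8, 7, 3] : Fin 7 → ℕ) i :=
    inv_step hτ h2 (by decide)
  intro i
  rw [Pi.add_apply, Pi.add_apply, Pi.smul_apply, Pi.smul_apply, h2, h3]

theorem sym_E8 (σ : Equiv.Perm (Fin 8)) (hσ : ∀ i j, CoxeterMatrix.E₈ (σ i) (σ j) = CoxeterMatrix.E₈ i j) :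
    σ = 1 := by
  refine sym_one (M := CoxeterMatrix.E₈) (g := ![4, 5, 7, 12, 9, 8, 6, 3])
    (fun τ hτ => ?_) (by decide) σ hσ
  have h1 : ∀ i, (![1, 1, 2, 3, 2, 2, 2, 1] : Fin 8 → ℕ) (τ i) = (![1, 1, 2, 3, 2, 2, 2, 1] : Fin 8 → ℕ) i :=
    inv_step hτ (g := fun _ => 1) (fun _ => rfl) (by decide)
  have h2 : ∀ i, (![2, 3, 4, 5, 5, 4, 3, 2] : Fin 8 → ℕ) (τ i) = (![2, 3, 4, 5, 5, 4, 3, 2] : Fin 8 → ℕ) i :=
    inv_step hτ h1 (by decide)
  exact inv_step hτ h2 (by decide)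

/-! ### `G₂` -/

theorem isType_G2 : IsType chevG2 2 CoxeterMatrix.G₂ := by simp [IsType, typeList]
theorem isType_F4 : IsType chevF4 4 CoxeterMatrix.F₄ := by simp [IsType, typeList]
theorem isType_E6 : IsType chevE6 6 CoxeterMatrix.E₆ := by simp [IsType, typeList]
theorem isType_E7 : IsType chevE7 7 CoxeterMatrix.E₇ := by simp [IsType, typeList]
theorem isType_E8 : IsType chevE8 8 CoxeterMatrix.E₈ := by simp [IsType, typeList]

theorem cartan_G2_01 : cartanOf chevG2 2 0 1 = -3 := by decide +kernel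

theorem cartan_G2_10 : cartanOf chevG2 2 1 0 = -1 := by decide +kernel

variable {K : Type u} [Field K]

theorem exists_ab {D : ChevalleyDatum} {K : Type u} [Field K] (h : ¬ IsMulCommutative ↥(D.group K)) :
    ∃ a b : ↥(D.group K), a * b ≠ b * a := by
  by_contra hcon
  push Not at hcon
  exact h ⟨⟨hcon⟩⟩

/-- `G₂(q)`, `q > 2` even, has no automorphism interchanging the nodes. -/
theorem not_graphType_G2 [Finite K] [CharP K 2] (hK : ∃ a : K, a ≠ 0 ∧ a ≠ 1) (x : MulAut ↥(chevG2.group K)) :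
    ¬ GraphType isType_G2 K x := by
  rintro ⟨g, u, β, σ, -, hσ1, -, hσ, D, -, -, -⟩
  have : Fact (Nat.Prime 2) := ⟨Nat.prime_two⟩
  have hW := finite_W isType_G2 (CoxeterMatrix.G₂.toCoxeterSystem)
  have R := rgd (K := K) isType_G2 CoxeterMatrix.G₂.toCoxeterSystem 2
  have C := coords (K := K) isType_G2 CoxeterMatrix.G₂.toCoxeterSystem 2
  have H := coroots (K := K) isType_G2 CoxeterMatrix.G₂.toCoxeterSystem 2
  have hsw : σ 0 = 1 ∧ σ 1 = 0 := by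
    have h1 : ∀ σ : Equiv.Perm (Fin 2), σ ≠ 1 → σ 0 = 1 ∧ σ 1 = 0 := by decide
    exact h1 σ hσ1
  obtain ⟨τ, S⟩ := exists_semi R C D hσ
  have h3 : ∀ a : K, τ 0 a = τ 1 a ^ 3 := by
    intro a
    by_cases ha : a = 0
    · rw [ha, map_zero, map_zero, zero_pow three_ne_zero]
    · have h4 := S.zpow_eq H (isType_G2.isCartan).diag D 0 1 ha
      rw [hsw.1, hsw.2, cartan_G2_01, cartan_G2_10, show (2 : ℤ) * -1 = -((2 : ℕ) : ℤ) from rfl,
        show (2 : ℤ) * -3 = -((6 : ℕ) : ℤ) from rfl, zpow_neg, zpow_neg, inv_inj, zpow_natCast, zpow_natCast] at h4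
      have h5 : (τ 0 a - τ 1 a ^ 3) ^ 2 = 0 := by
        have h7 : (2 : K) = 0 := CharTwo.two_eq_zero
        have h6 : (τ 0 a - τ 1 a ^ 3) ^ 2 = (τ 0 a ^ 2 - τ 1 a ^ 6) + 2 * (τ 1 a ^ 6 - τ 0 a * τ 1 a ^ 3) := by ring
        rw [h6, h4, sub_self, h7, zero_mul, add_zero]
      exact sub_eq_zero.1 (pow_eq_zero_iff two_ne_zero |>.1 h5)
  obtain ⟨a, ha0, ha1⟩ := hK
  have h4 := h3 (1 + a)
  rw [map_add, map_add, map_one, map_one, h3 a] at h4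
  have h5 : τ 1 a * (1 + τ 1 a) = 0 := by
    have h6 : (1 + τ 1 a) ^ 3 = 1 + τ 1 a ^ 3 + 3 * (τ 1 a * (1 + τ 1 a)) := by ring
    rw [h6] at h4
    have h7 : (3 : K) * (τ 1 a * (1 + τ 1 a)) = 0 := by
      have h8 : (1 + τ 1 a ^ 3 : K) + 0 = 1 + τ 1 a ^ 3 + 3 * (τ 1 a * (1 + τ 1 a)) := by rw [add_zero]; exact h4
      exact (add_left_cancel h8).symm
    have h8 : (3 : K) = 1 := by
      have h9 : (2 : K) = 0 := CharTwo.two_eq_zero
      have : (3 : K) = 2 + 1 := by norm_num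
      rw [this, h9, zero_add]
    rwa [h8, one_mul] at h7
  rcases mul_eq_zero.1 h5 with h6 | h6
  · exact ha0 ((map_eq_zero _).1 h6)
  · apply ha1
    have h7 : τ 1 a = 1 := by
      have : τ 1 a = -1 := by
        rw [add_comm] at h6
        exact eq_neg_of_add_eq_zero_left h6
      rw [this, CharTwo.neg_eq]
    have h8 : τ 1 a = τ 1 1 := by rw [h7, map_one]
    exact (τ 1).injective h8

/-- **`G₂(q)`**, `q > 2` even -/
theorem field_G2 [Finite K] [CharP K 2] (hK : ∃ a : K, a ≠ 0 ∧ a ≠ 1) {x : MulAut ↥(chevG2.group K)}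
    (hx : x ^ 2 = 1) : (∃ g, x = MulAut.conj g) ∨ FieldType chevG2 K x := by
  obtain ⟨hs, hna⟩ := Cfsg.Agent.S1055.result (F := K) hK
  rcases untw isType_G2 (exists_ab hna) hx with h | h | h
  · exact Or.inl h
  · exact Or.inr h
  · exact absurd h (not_graphType_G2 hK x)

/-- **`F₄(q)`**, `q` even -/
theorem field_F4 [Finite K] [CharP K 2] {x : MulAut ↥(chevF4.group K)}
    (hx : x ^ 2 = 1) : (∃ g, x = MulAut.conj g) ∨ FieldType chevF4 K x ∨ GraphType isType_F4 K x := by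
  obtain ⟨hs, hna⟩ := Cfsg.Agent.S1054.result (F := K) chevF4 (by simp)
  exact untw isType_F4 (exists_ab hna) hx

/-- **`E₆(q)`**, `q` even -/
theorem field_E6 [Finite K] [CharP K 2] {x : MulAut ↥(chevE6.group K)}
    (hx : x ^ 2 = 1) : (∃ g, x = MulAut.conj g) ∨ FieldType chevE6 K x ∨ GraphType isType_E6 K x := by
  obtain ⟨hs, hna⟩ := Cfsg.Agent.S1054.result (F := K) chevE6 (by simp)
  exact untw isType_E6 (exists_ab hna) hx

/-- **`E₇(q)`**, `q` even -/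
theorem field_E7 [Finite K] [CharP K 2] {x : MulAut ↥(chevE7.group K)}
    (hx : x ^ 2 = 1) : (∃ g, x = MulAut.conj g) ∨ FieldType chevE7 K x := by
  obtain ⟨hs, hna⟩ := Cfsg.Agent.S1054.result (F := K) chevE7 (by simp)
  rcases untw isType_E7 (exists_ab hna) hx with h | h | ⟨g, u, β, σ, -, hσ1, -, hσ, -⟩
  · exact Or.inl h
  · exact Or.inr h
  · exact absurd (sym_E7 σ hσ) hσ1

/-- **`E₈(q)`**, `q` even -/
theorem field_E8 [Finite K] [CharP K 2] {x : MulAut ↥(chevE8.group K)}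
    (hx : x ^ 2 = 1) : (∃ g, x = MulAut.conj g) ∨ FieldType chevE8 K x := by
  obtain ⟨hs, hna⟩ := Cfsg.Agent.S1054.result (F := K) chevE8 (by simp)
  rcases untw isType_E8 (exists_ab hna) hx with h | h | ⟨g, u, β, σ, -, hσ1, -, hσ, -⟩
  · exact Or.inl h
  · exact Or.inr h
  · exact absurd (sym_E8 σ hσ) hσ1

end Cfsg.Agent.H829.FieldTwo
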