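import Cfsg.Agent.H829.UNodeEll

/-!
# The last node of `PSU_N(q)`, `N` odd, is of unitary type (task 786, ODD-1 (b))

`UAt R i` : the data of `UNodeEll.Dat` exist at the node `i`;
`uAt_odd` : the last node of `PSU_{2m+1}(q)`, `q` odd; `last_not_mem` : this node is not in `J` for every normal form.
-/

set_option autoImplicit false
set_option linter.unusedSectionVars false

namespace Cfsg.Agent.H829.UNodeLast

open Cfsg Cfsg.Agent.LieClassical.HermBasic Cfsg.Agent.LieClassical.HermGen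
open Cfsg.Agent.ChevalleyStructure.CoxeterGeom Cfsg.Agent.Tits.Roots Cfsg.Agent.Nodes.TypeC
open Cfsg.Agent.Nodes.Comb Cfsg.Agent.Nodes.Reps Cfsg.Agent.Nodes.WittRoot Cfsg.Agent.Nodes.BNOf
open Cfsg.Agent.Nodes.WittRGD Cfsg.Agent.Nodes.RGDLib Cfsg.Agent.Nodes.WittModel Cfsg.Agent.Nodes.WittU
open Cfsg.Agent.TitsThree Cfsg.Agent.TitsThree.Siegel Cfsg.Agent.TitsThree.SiegelGen
  Cfsg.Agent.TitsThree.WittFrame Cfsg.Agent.TitsThree.WBridge Cfsg.Agent.TitsThree.WittWeyl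
  Cfsg.Agent.TitsThree.FrameCN Cfsg.Agent.TitsThree.KSideU Cfsg.Agent.TitsThree.KSideUDesc
open Cfsg.Agent.FixBN Cfsg.Agent.FixBN.WittNodeA Cfsg.Agent.FixBN.WittNodeB Cfsg.Agent.FixBN.WittNodeC
open Cfsg.Agent.FixBN.U3Model Cfsg.Agent.UGT.U2.FOne

section UAt

variable {I W Y : Type*} [Fintype I] [DecidableEq I] [Group W] [Group Y] {M : CoxeterMatrix I}
  {cs : CoxeterSystem M W} {A : I → I → ℤ} {h : IsCartan M A} {p : ℕ} {T : Subgroup Y} {n : I → Y}
  {X : (I → ℤ) → Subgroup Y}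

/-- The node `i` is of unitary type (the second alternative of `GoodAt`). -/
def UAt (_R : RGD cs h p T n X) (i : I) : Prop :=
  ∃ (F : Type) (_ : Field F) (σ : F →+* F) (_ : Inv2 σ) (x : Pt σ → Y), UF σ ∧ (∀ a b, x (a * b) = x a * x b) ∧
    (∀ a, x a ∈ X (sr i)) ∧ (∀ u ∈ X (sr i), ∃ a, u = x a) ∧ (∀ a, x a = 1 → a = 1) ∧
    ∀ a, a ≠ 1 → (x (J a) * n i)⁻¹ * (n i * x a * n i) ∈ RGD.B cs h T X

/-- **A node of unitary type is not in `J`.** -/
theorem UAt.not_mem [Finite W] {R : RGD cs h p T n X} {i : I} (hR : UAt R i) {n' : I → Y} {x d : MulAut Y}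
    {φ : W ≃* W} {s : I → I} {J' : Set I} {g : Y} (H : NF cs h p T n' X x d φ s J' g) : i ∉ J' := by
  obtain ⟨F, _, σ, _, xx, h1, h2, h3, h4, h5, h6⟩ := hR
  intro hi
  exact UNodeEll.false_of_unode R i h1 xx h2 h3 h4 h5 h6 x H.xx (H.x_sr hi) (H.ell i hi)

end UAt

section Good

variable {F : Type} [Field F] {V : Type*} [AddCommGroup V] [Module F V] {H : HForm F V} {n : ℕ}
  {Fr : Frame H (Fin n)} {K : Type*} [Group K] {M : Model Fr K} (hA : Amb Fr M.I)
  {p0 : Fr.Adm} (hp0 : p0.c ≠ 0) {W : Type*} [Group W]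
  {cs : CoxeterSystem (CoxeterMatrix.B n) W} {p : ℕ} (R : RGD cs (isCartan n) p (T M) (nw M hA p0) (X M))

include hp0 in
/-- The last node: a unitary parametrisation of the admissible pairs. -/
theorem uAt_U {i : Fin n} (hi : ¬ (i : ℕ) + 1 < n) {E : Type} [Field E] {σ : E →+* E} [Inv2 σ] (hσ : UF σ)
    (f : Pt σ → Fr.Adm) (hf : ∀ a b, f (a * b) = f a * f b) (hs : Function.Surjective f)
    (hc : ∀ a, (f a).c = 0 → a = 1)
    (hJw : ∀ a, a ≠ 1 → (H.ε⁻¹ * H.σ p0.c * (f a).c⁻¹) • (refl Fr p0 hp0 (f a)).w = (f (J a)).w)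
    (hJc : ∀ a, a ≠ 1 → H.ε⁻¹ * (p0.c * H.σ p0.c) * (f a).c⁻¹ = (f (J a)).c) : UAt R i := by
  refine ⟨E, inferInstance, σ, inferInstance, fun a => M.Z (i, true) (f a), hσ, fun a b => ?_,
    fun a => (mem_X_last hi).2 ⟨_, rfl⟩, fun u hu => ?_, fun a ha => ?_, fun a ha => ?_⟩
  · show M.Z (i, true) (f (a * b)) = M.Z (i, true) (f a) * M.Z (i, true) (f b)
    rw [hf, Z_mul']
  · obtain ⟨q, rfl⟩ := (mem_X_last hi).1 hu
    obtain ⟨a, rfl⟩ := hs q
    exact ⟨a, rfl⟩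
  · have h1 := Z_eq_one M ha
    exact hc a (by rw [h1]; rfl)
  · have hca : (f a).c ≠ 0 := fun h => ha (hc a h)
    have h1 := inv_Z hA hp0 R hi hca
    have h3 : Jm Fr p0 hp0 (f a) = f (J a) := by
      apply Frame.Adm.ext
      · rw [Jm_w, hJw a ha]
      · rw [Jm_c Fr p0 hp0 _ hca, hJc a ha]
    rw [h3] at h1
    exact h1

end Good

section Unitary

variable {F : Type} [Field F] [Fintype F] {q N : ℕ} (hF : Fintype.card F = q ^ 2) {m : ℕ} {p : ℕ} [Fact p.Prime]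
  [CharP F p]

/-- **The last node of `PSU_N(q)`, `N = 2m + 1`, `q` odd, is of unitary type.** -/
theorem uAt_odd (hN : 3 ≤ N) (hp2 : Odd p) (W : WFrame (PU hF N) m) (d : Fin N → F)
    (hd : hermForm N F q d d = 1) (hW : W.V0 = Submodule.span F {d}) :
    ∃ (p0 : (toFrame W).Adm) (_ : p0.c ≠ 0),
      ∀ (R : RGD (CoxeterMatrix.B m).toCoxeterSystem (isCartan m) p (T (KInstU.model hF hN W))
        (nw (KInstU.model hF hN W) (amb_U hF W) p0) (X (KInstU.model hF hN W))) (i : Fin m),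
        ¬ (i : ℕ) + 1 < m → UAt R i := by
  have h2 := two_ne_zero_of_odd (F := F) hp2
  obtain ⟨a0, ha0, hn⟩ := exists_norm_eq_ne hF (c := (-2 : F)) (by
    rw [neg_pow_q hF, show (2 : F) = 1 + 1 by norm_num, add_pow_q hF, one_pow]) (neg_ne_zero.2 h2)
  let σ : F →+* F := ((conj hF : F ≃+* F) : F →+* F)
  have hσ : ∀ x, σ x = x ^ q := fun x => rfl
  have hI : U3Model.Inv2 σ := ⟨fun x => pow_q_pow_q hF x⟩
  have hd0 : d ∈ W.V0 := by rw [hW]; exact Submodule.mem_span_singleton_self d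
  let p0 : (toFrame W).Adm := ⟨a0 • d, 1, W.V0.smul_mem _ hd0, by
    rw [ok_iff, herm_smul_left, herm_smul_right, hd, mul_one, hn, one_pow]; ring⟩
  have hp0 : p0.c ≠ 0 := one_ne_zero
  refine ⟨p0, hp0, ?_⟩
  intro R i hi
  refine uAt_U (amb_U hF W) hp0 R hi (σ := σ) (UNode.uf_of_card hF (odd_q hF hp2) σ hσ)
    (fun x => ⟨x.a • d, x.b, W.V0.smul_mem _ hd0, ?_⟩) ?_ ?_ ?_ ?_ ?_
  · rw [ok_iff, herm_smul_left, herm_smul_right, hd, mul_one]
    have := x.h
    rw [hσ, hσ] at this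
    linear_combination this
  · intro x y
    apply Frame.Adm.ext
    · show (x.a + y.a) • d = x.a • d + y.a • d
      rw [add_smul]
    · show x.b + y.b - σ x.a * y.a = x.b + y.b - (1 : F)⁻¹ * hermForm N F q (y.a • d) (x.a • d)
      rw [herm_smul_left, herm_smul_right, hd, hσ, inv_one]
      ring
  · rintro ⟨w, c, hw, hok'⟩
    obtain ⟨a, rfl⟩ : ∃ a : F, a • d = w := by
      rw [hW] at hw
      exact Submodule.mem_span_singleton.1 hw
    rw [ok_iff, herm_smul_left, herm_smul_right, hd, mul_one] at hok'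
    exact ⟨⟨a, c, by rw [hσ, hσ]; linear_combination hok'⟩, rfl⟩
  · intro x hx
    by_contra hne
    exact U3Model.b_ne_zero hne hx
  · intro x hx
    have hb := U3Model.b_ne_zero hx
    show ((1 : F)⁻¹ * (1 : F) ^ q * x.b⁻¹) • (x.a • d + ((1 : F)⁻¹ * (1 : F)⁻¹ *
      hermForm N F q (x.a • d) (a0 • d)) • (a0 • d)) = (U3Model.J x).a • d
    rw [U3Model.J_a hx, herm_smul_left, herm_smul_right, hd, smul_smul, ← add_smul, smul_smul, one_pow]
    congr 1
    have h3 : x.a * (a0 ^ q * 1) * a0 = -2 * x.a := by linear_combination x.a * hn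
    field_simp
    linear_combination h3
  · intro x hx
    have hb := U3Model.b_ne_zero hx
    show (1 : F)⁻¹ * (1 * (1 : F) ^ q) * x.b⁻¹ = (U3Model.J x).b
    rw [U3Model.J_b hx, one_pow]
    field_simp

/-- **(b)** : in a normal form for `PSU_N(q)`, `N = 2m + 1`, `q` odd, the last node is not in `J`. -/
theorem last_not_mem (hN : 3 ≤ N) (hp2 : Odd p) (W : WFrame (PU hF N) m) (d : Fin N → F)
    (hd : hermForm N F q d d = 1) (hW : W.V0 = Submodule.span F {d}) {n' : Fin m → PSU N F q}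
    {x e : MulAut (PSU N F q)} {φ : (CoxeterMatrix.B m).Group ≃* (CoxeterMatrix.B m).Group} {s : Fin m → Fin m}
    {J' : Set (Fin m)} {g : PSU N F q}
    (H : NF (CoxeterMatrix.B m).toCoxeterSystem (isCartan m) p (T (KInstU.model hF hN W)) n'
      (X (KInstU.model hF hN W)) x e φ s J' g) (i : Fin m) (hi : ¬ (i : ℕ) + 1 < m) : i ∉ J' := by
  have hfin : Finite (CoxeterMatrix.B m).Group := finite_W (CoxeterMatrix.B m).toCoxeterSystem
  have hfin' : Finite (PSU N F q) := Quotient.finite _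
  obtain ⟨p0, hp0, h1⟩ := uAt_odd hF hN hp2 W d hd hW
  have R := Nodes.WittModel.rgd (KInstU.model hF hN W) (amb_U hF W) hp2 hp0 (CoxeterMatrix.B m).toCoxeterSystem
  exact (h1 R i hi).not_mem H

end Unitary

end Cfsg.Agent.H829.UNodeLast
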