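import Mathlib
import Cfsg.Agent.H7.Faithful
import Cfsg.Agent.S2122

/-!
# `O²(G)` when `|Out(F*(G))| = 2 · odd`

* `exists_odd_hom` : a group of order `2 f`, `f` odd, has a homomorphism to a 2-group with kernel of odd order;
* `fin` : `X ⊴ G` simple non-abelian, `C_G(X) = 1`, `|Out X| = 2 f`: `X ≤ O²(G)` and `|O²(G) : X|` is odd.
-/

set_option autoImplicit false

namespace Cfsg.Agent.H829.FinF4

open Cfsg Subgroup

universe u

theorem exists_odd_ker {Q : Type*} [Group Q] [Finite Q] {f : ℕ} (hf : Odd f) (hc : Nat.card Q = 2 * f) :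
    ∃ N : Subgroup Q, Odd (Nat.card N) ∧ ∀ x : Q, Odd (orderOf x) → x ∈ N := by
  have hp : Fact (Nat.Prime 2) := ⟨Nat.prime_two⟩
  obtain ⟨P⟩ : Nonempty (Sylow 2 Q) := inferInstance
  have hP2 : Nat.card (P : Subgroup Q) = 2 := by
    have h1 := P.card_eq_multiplicity
    have h2 : (Nat.card Q).factorization 2 = 1 := by
      rw [hc, Nat.factorization_mul (by norm_num) (by rintro rfl; simp at hf)]
      have h3 : f.factorization 2 = 0 := Nat.factorization_eq_zero_of_not_dvd (fun h => by
        exact (Nat.not_even_iff_odd.2 hf) (even_iff_two_dvd.2 h))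
      simp [h3, Nat.Prime.factorization Nat.prime_two]
    rw [h1, h2, pow_one]
  have hPc : normalizer ((P : Subgroup Q) : Set Q) ≤ centralizer ((P : Subgroup Q) : Set Q) := by
    intro g hg x hx
    have h1 : g * x * g⁻¹ ∈ (P : Subgroup Q) := (mem_normalizer_iff.1 hg x).1 hx
    by_cases hx1 : x = 1
    · subst hx1; simp
    have key : ∀ y ∈ (P : Subgroup Q), y ≠ 1 → y = x := by
      intro y hy hy1
      obtain ⟨a, b, hab, hu⟩ := Nat.card_eq_two_iff.1 hP2
      have hall : ∀ z : (P : Subgroup Q), z = a ∨ z = b := by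
        intro z
        have : z ∈ ({a, b} : Set (P : Subgroup Q)) := by rw [hu]; trivial
        simpa using this
      have e1 := hall 1
      have e2 := hall ⟨x, hx⟩
      have e3 := hall ⟨y, hy⟩
      rcases e1 with e1 | e1
      · have e2' : (⟨x, hx⟩ : (P : Subgroup Q)) = b := by
          rcases e2 with e2 | e2
          · exfalso; apply hx1; have := e2.trans e1.symm; exact congrArg Subtype.val this
          · exact e2
        have e3' : (⟨y, hy⟩ : (P : Subgroup Q)) = b := by
          rcases e3 with e3 | e3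
          · exfalso; apply hy1; have := e3.trans e1.symm; exact congrArg Subtype.val this
          · exact e3
        exact congrArg Subtype.val (e3'.trans e2'.symm)
      · have e2' : (⟨x, hx⟩ : (P : Subgroup Q)) = a := by
          rcases e2 with e2 | e2
          · exact e2
          · exfalso; apply hx1; have := e2.trans e1.symm; exact congrArg Subtype.val this
        have e3' : (⟨y, hy⟩ : (P : Subgroup Q)) = a := by
          rcases e3 with e3 | e3
          · exact e3
          · exfalso; apply hy1; have := e3.trans e1.symm; exact congrArg Subtype.val this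
        exact congrArg Subtype.val (e3'.trans e2'.symm)
    have h2 : g * x * g⁻¹ = x := key _ h1 (by
      intro h; apply hx1
      have : x = g⁻¹ * (g * x * g⁻¹) * g := by group
      rw [this, h]; group)
    calc x * g = g * x * g⁻¹ * g := by rw [h2]
      _ = g * x := by group
  have hcomp := MonoidHom.ker_transferSylow_isComplement' P hPc
  refine ⟨(MonoidHom.transferSylow P hPc).ker, ?_, ?_⟩
  · have h1 := hcomp.card_mul_card
    rw [hP2, hc] at h1
    have h2 : Nat.card (MonoidHom.transferSylow P hPc).ker = f := by omega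
    rw [h2]; exact hf
  · intro x hx
    rw [MonoidHom.mem_ker]
    have h1 : orderOf ((MonoidHom.transferSylow P hPc) x) ∣ orderOf x := orderOf_map_dvd _ x
    have h2 : orderOf ((MonoidHom.transferSylow P hPc) x) ∣ 2 := by
      have := orderOf_dvd_natCard ((MonoidHom.transferSylow P hPc) x)
      rwa [hP2] at this
    have h3 : orderOf ((MonoidHom.transferSylow P hPc) x) ∣ 1 := by
      have hcop : Nat.Coprime (orderOf x) 2 := Nat.Coprime.symm (Nat.coprime_two_left.2 hx)
      have := Nat.dvd_gcd h1 h2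
      rwa [hcop] at this
    exact orderOf_eq_one_iff.1 (Nat.dvd_one.1 h3)

set_option maxHeartbeats 400000 in
/-- the abstract form -/
theorem fin_of_hom {G Q : Type*} [Group G] [Finite G] [Group Q] [Finite Q] (X : Subgroup G) (hperf : ⁅X, X⁆ = X)
    {f : ℕ} (hf : Odd f) (hc : Nat.card Q = 2 * f) (φ : G →* Q) (hker : φ.ker ≤ X) :
    X ≤ oddGenerated (⊤ : Subgroup G) ∧ Odd (X.relIndex (oddGenerated (⊤ : Subgroup G))) := by
  have hX : X ≤ oddGenerated (⊤ : Subgroup G) := by
    have h1 := Cfsg.Agent.H7.Faithful.oddGenerated_of_perfect hperf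
    rw [← h1]
    exact closure_mono (fun x hx => ⟨mem_top _, hx.2⟩)
  refine ⟨hX, ?_⟩
  obtain ⟨N, hN, hN2⟩ := exists_odd_ker hf hc
  have hle : oddGenerated (⊤ : Subgroup G) ≤ N.comap φ := by
    refine (closure_le _).2 ?_
    rintro x ⟨-, hx⟩
    refine hN2 _ ?_
    exact Odd.of_dvd_nat hx (orderOf_map_dvd φ x)
  have h1 : X.relIndex (oddGenerated (⊤ : Subgroup G)) ∣ (φ.ker).relIndex (oddGenerated (⊤ : Subgroup G)) :=
    relIndex_dvd_of_le_left _ hker
  have h2 : (φ.ker).relIndex (oddGenerated (⊤ : Subgroup G)) = Nat.card ((oddGenerated (⊤ : Subgroup G)).map φ) :=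
    Subgroup.relIndex_ker _ φ
  have h3 : Nat.card ((oddGenerated (⊤ : Subgroup G)).map φ) ∣ Nat.card N := by
    refine Subgroup.card_dvd_of_le ?_
    rintro _ ⟨x, hx, rfl⟩
    exact hle hx
  rw [h2] at h1
  exact Odd.of_dvd_nat hN (h1.trans h3)

theorem conjNormal_inner {G : Type*} [Group G] (X : Subgroup G) [X.Normal]
    (hC : centralizer (X : Set G) = ⊥) {g : G} {y : X} (h : MulAut.conj y = MulAut.conjNormal (H := X) g) : g ∈ X := by
  have h1 : (y : G)⁻¹ * g ∈ centralizer (X : Set G) := by
    rw [mem_centralizer_iff]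
    intro x hx
    have h2 : ((MulAut.conj y ⟨x, hx⟩ : X) : G) = ((MulAut.conjNormal (H := X) g ⟨x, hx⟩ : X) : G) := by rw [h]
    rw [MulAut.conjNormal_apply, MulAut.conj_apply] at h2
    have h3 : (y : G) * x * (y : G)⁻¹ = g * x * g⁻¹ := h2
    calc x * ((y : G)⁻¹ * g) = (y : G)⁻¹ * ((y : G) * x * (y : G)⁻¹) * g := by group
      _ = (y : G)⁻¹ * (g * x * g⁻¹) * g := by rw [h3]
      _ = (y : G)⁻¹ * g * x := by group
  rw [hC, mem_bot] at h1
  have h2 : g = (y : G) := by
    calc g = (y : G) * ((y : G)⁻¹ * g) := by group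
      _ = (y : G) := by rw [h1, mul_one]
  rw [h2]; exact y.2

/-- the kernel of `G → Out X` -/
theorem ker_le {G : Type*} [Group G] (X : Subgroup G) [X.Normal] (hC : centralizer (X : Set G) = ⊥) :
    ((QuotientGroup.mk' (Inn X)).comp (MulAut.conjNormal (H := X))).ker ≤ X := by
  intro g hg
  rw [MonoidHom.mem_ker, MonoidHom.comp_apply, QuotientGroup.mk'_apply, QuotientGroup.eq_one_iff] at hg
  obtain ⟨y, hy⟩ := hg
  exact conjNormal_inner X hC hy

/-- **The last step.** -/
theorem fin {G : Type*} [Group G] [Finite G] (X : Subgroup G) [X.Normal] (hperf : ⁅X, X⁆ = X)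
    (hC : centralizer (X : Set G) = ⊥) {f : ℕ} (hf : Odd f)
    (hc : Nat.card (Cfsg.Out X) = 2 * f) :
    X ≤ oddGenerated (⊤ : Subgroup G) ∧ Odd (X.relIndex (oddGenerated (⊤ : Subgroup G))) := by
  have : Finite (MulAut X) := MulEquiv.finite_left
  exact fin_of_hom X hperf hf hc _ (ker_le X hC)

end Cfsg.Agent.H829.FinF4
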