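import Cfsg.Agent.H684.TwFour
import Cfsg.Agent.KFacts.TwF4.Rot
import Cfsg.Agent.H441.GLAmal.TF4
import Cfsg.Agent.H829.GowDesc

/-!
# The panel of type `1` of a group of type `²F₄` (helper829, S4913)

`pt z`, `z ∈ F ∪ {∞}` : the points `B`, `x_1(s) n_1 B`; `Hs` : the pairs `(g, γ)`, `γ ∈ GL₂(F)`, with
`g • pt z = pt (γ • z)`; `pan` : `Pan Hs`; `U_mem`, `T_mem`, `n1_mem`, `cover`.
-/

set_option autoImplicit false
set_option linter.unusedSectionVars false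

namespace Cfsg.Agent.H829.GowPanel

open Cfsg.Agent.SplitTwo Cfsg.Agent.SplitTwo.ZS Cfsg.Agent.TitsThree.RankTwoZ
open Cfsg.Agent.KFacts.TwF4 Cfsg.Agent.KFacts.TwF4.SylU
open Cfsg.Agent.H684.TwFour (Bo U_le T_le conj_U)
open Cfsg.Agent.H441.GLAmal.TF4 (o_zero o_sq o_inv n1_inv chO0 chO4 n1_o0 n1_o4 ne_one cube)
open Cfsg.Agent.H829.GowDesc
open Matrix.GeneralLinearGroup (upperRightHom scalar)

universe u

section Mat

variable {F : Type*} [Field F]

/-- `diag(a, 1)` -/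
def dg (a : Fˣ) : GL (Fin 2) F where
  val := !![(a : F), 0; 0, 1]
  inv := !![((a⁻¹ : Fˣ) : F), 0; 0, 1]
  val_inv := by ext i j; fin_cases i <;> fin_cases j <;> simp
  inv_val := by ext i j; fin_cases i <;> fin_cases j <;> simp

/-- the antidiagonal matrix -/
def wm : GL (Fin 2) F where
  val := !![0, 1; 1, 0]
  inv := !![0, 1; 1, 0]
  val_inv := by ext i j; fin_cases i <;> fin_cases j <;> simp
  inv_val := by ext i j; fin_cases i <;> fin_cases j <;> simp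

theorem coe_dg (a : Fˣ) : ((dg a : GL (Fin 2) F) : Matrix (Fin 2) (Fin 2) F) = !![(a : F), 0; 0, 1] := rfl
theorem coe_wm : ((wm : GL (Fin 2) F) : Matrix (Fin 2) (Fin 2) F) = !![0, 1; 1, 0] := rfl

theorem coe_up (t : F) : ((upperRightHom t : GL (Fin 2) F) : Matrix (Fin 2) (Fin 2) F) = !![1, t; 0, 1] := by
  simp [upperRightHom]

theorem coe_sc (c : Fˣ) : ((scalar (Fin 2) c : GL (Fin 2) F) : Matrix (Fin 2) (Fin 2) F) = !![(c : F), 0; 0, (c : F)] := by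
  ext i j; fin_cases i <;> fin_cases j <;> simp [scalar]

theorem gl_top (D : Subgroup (GL (Fin 2) F)) (h1 : ∀ t : F, upperRightHom t ∈ D) (h2 : ∀ a : Fˣ, dg a ∈ D)
    (h3 : ∀ c : Fˣ, scalar (Fin 2) c ∈ D) (h4 : wm ∈ D) : D = ⊤ := by
  have key : ∀ γ : GL (Fin 2) F, γ 1 0 = 0 → γ ∈ D := by
    intro γ h0
    have hdet := γ.det_ne_zero
    rw [Matrix.det_fin_two, h0, mul_zero, sub_zero] at hdet
    have ha : γ 0 0 ≠ 0 := left_ne_zero_of_mul hdet
    have hd : γ 1 1 ≠ 0 := right_ne_zero_of_mul hdet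
    have e : γ = scalar (Fin 2) (Units.mk0 _ hd) * upperRightHom (γ 0 1 / γ 1 1) * dg (Units.mk0 _ ha / Units.mk0 _ hd) := by
      apply Units.ext
      rw [Units.val_mul, Units.val_mul, coe_sc, coe_up, coe_dg]
      ext i j
      fin_cases i <;> fin_cases j <;> simp [Matrix.mul_apply, Fin.sum_univ_two, h0] <;> field_simp
    rw [e]
    exact mul_mem (mul_mem (h3 _) (h1 _)) (h2 _)
  rw [eq_top_iff]
  intro γ _
  by_cases h0 : γ 1 0 = 0
  · exact key γ h0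
  · have h5 : wm * upperRightHom (-(γ 0 0 / γ 1 0)) * γ ∈ D := by
      apply key
      rw [Units.val_mul, Units.val_mul, coe_wm, coe_up]
      simp [Matrix.mul_apply, Fin.sum_univ_two]
      field_simp
      ring
    have h6 := mul_mem (inv_mem (mul_mem h4 (h1 (-(γ 0 0 / γ 1 0))))) h5
    rwa [inv_mul_cancel_left] at h6

variable [DecidableEq F]

theorem up_infty (t : F) : (upperRightHom t : GL (Fin 2) F) • (OnePoint.infty : OnePoint F) = OnePoint.infty := by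
  rw [OnePoint.smul_infty_eq_self_iff, coe_up]; rfl

theorem up_some (t s : F) : (upperRightHom t : GL (Fin 2) F) • (s : OnePoint F) = ((s + t : F) : OnePoint F) := by
  rw [OnePoint.smul_some_eq_ite, coe_up]; simp

theorem dg_infty (a : Fˣ) : (dg a : GL (Fin 2) F) • (OnePoint.infty : OnePoint F) = OnePoint.infty := by
  rw [OnePoint.smul_infty_eq_self_iff, coe_dg]; rfl

theorem dg_some (a : Fˣ) (s : F) : (dg a : GL (Fin 2) F) • (s : OnePoint F) = ((a * s : F) : OnePoint F) := by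
  rw [OnePoint.smul_some_eq_ite, coe_dg]; simp

theorem wm_infty : (wm : GL (Fin 2) F) • (OnePoint.infty : OnePoint F) = ((0 : F) : OnePoint F) := by
  rw [OnePoint.smul_infty_eq_ite, coe_wm]; simp

theorem wm_zero : (wm : GL (Fin 2) F) • ((0 : F) : OnePoint F) = (OnePoint.infty : OnePoint F) := by
  rw [OnePoint.smul_some_eq_ite, coe_wm]; simp

theorem wm_some {s : F} (hs : s ≠ 0) : (wm : GL (Fin 2) F) • (s : OnePoint F) = ((s⁻¹ : F) : OnePoint F) := by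
  rw [OnePoint.smul_some_eq_ite, coe_wm]; simp [hs]

theorem sc_smul (c : Fˣ) (z : OnePoint F) : (scalar (Fin 2) c : GL (Fin 2) F) • z = z := by
  induction z using OnePoint.rec with
  | infty => rw [OnePoint.smul_infty_eq_self_iff, coe_sc]; rfl
  | coe s => rw [OnePoint.smul_some_eq_ite, coe_sc]; simp

theorem scalar_of_fix {γ : GL (Fin 2) F} (h : ∀ z : OnePoint F, γ • z = z) : ∃ c : Fˣ, γ = scalar (Fin 2) c := by
  have h1 := h OnePoint.infty
  rw [OnePoint.smul_infty_eq_self_iff] at h1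
  have hdet := γ.det_ne_zero
  rw [Matrix.det_fin_two, h1, mul_zero, sub_zero] at hdet
  have ha : γ 0 0 ≠ 0 := left_ne_zero_of_mul hdet
  have hd : γ 1 1 ≠ 0 := right_ne_zero_of_mul hdet
  have h2 := h ((0 : F) : OnePoint F)
  rw [OnePoint.smul_some_eq_ite, if_neg (by rw [h1]; simpa using hd)] at h2
  have h2' := OnePoint.coe_injective h2
  rw [div_eq_iff (by rw [h1]; simpa using hd), zero_mul, mul_zero, zero_add] at h2'
  have h3 := h ((1 : F) : OnePoint F)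
  rw [OnePoint.smul_some_eq_ite, if_neg (by rw [h1]; simpa using hd)] at h3
  have h3' := OnePoint.coe_injective h3
  rw [div_eq_iff (by rw [h1]; simpa using hd), h1, h2', zero_mul, one_mul, zero_add, mul_one, add_zero] at h3'
  refine ⟨Units.mk0 _ hd, Units.ext ?_⟩
  rw [coe_sc]
  ext i j
  fin_cases i <;> fin_cases j <;> simp [h1, h2', h3']

end Mat

section Panel

variable {F : Type*} [Field F] {σ : F →+* F} {G : Type u} [Group G] (S : Full σ G)

theorem n1_T {t : G} (ht : t ∈ S.T) : S.n1⁻¹ * t * S.n1 ∈ S.T := by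
  have h1 : Maps S.R.X S.n1⁻¹ (fun k => 10 - k) := S.n1_maps.inv (fun k => by ring)
  exact ((h1.mul ht).mul S.n1_maps).congr (fun k => by simp only [Function.comp, id]; ring)

theorem n1_J {x : G} (hx : x ∈ J S.XZ 2 8) : S.n1⁻¹ * x * S.n1 ∈ J S.XZ 2 8 :=
  S.n1_refl.mem_J_inv hx (by norm_num) (by norm_num)

theorem o0_J (t : F) : S.o 0 t ∈ J S.XZ 1 8 := by
  have h1 : S.o 0 t ∈ S.XZ (2 * 0 + 1) := (S.mem_XZ_odd 0 _).2 ⟨t, by simp⟩
  exact mem_J h1 (by norm_num) (by norm_num)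

theorem J2_J1 {x : G} (hx : x ∈ J S.XZ 2 8) : x ∈ J S.XZ 1 8 := J_mono (by norm_num) le_rfl hx

include S in
theorem exists_unit (hF : ∃ c : Fˣ, c ≠ 1) : ∃ c : Fˣ, c ≠ c⁻¹ := by
  obtain ⟨c, hc⟩ := hF
  refine ⟨c, fun h => hc (unit_sq S ?_)⟩
  nth_rw 1 [h]
  exact inv_mul_cancel c

theorem n1_not_mem [Finite F] [Finite G] (hF : ∃ c : Fˣ, c ≠ 1) (hR : S.R.p = 2) : S.n1 ∉ Bo S := by
  intro h
  have h4 : S.o 4 1 ∈ J S.XZ 1 8 := by
    rw [← n1_o0]; exact conj_U S h (o0_J S 1)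
  obtain ⟨k, hk⟩ := Cfsg.Agent.H684.TwFour.isP S hR ⟨S.o 0 1 * S.o 4 1, mul_mem (o0_J S 1) h4⟩
  have hk' : (S.o 0 1 * S.o 4 1) ^ 2 ^ k = 1 := congrArg Subtype.val hk
  obtain ⟨c, hc⟩ := exists_unit S hF
  have h1 := Cfsg.Agent.H441.GLAmal.TF4.order S hc
  have h2 : 3 ∣ 2 ^ k := h1 ▸ orderOf_dvd_of_pow_eq_one hk'
  have h3 := Nat.prime_three.dvd_of_dvd_pow h2
  norm_num at h3

/-- the points of the panel -/
noncomputable def pt (z : OnePoint F) : G ⧸ Bo S :=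
  z.elim ((1 : G) : G ⧸ Bo S) (fun s => ((S.o 0 s * S.n1 : G) : G ⧸ Bo S))

theorem pt_infty : pt S OnePoint.infty = ((1 : G) : G ⧸ Bo S) := rfl
theorem pt_some (s : F) : pt S (s : OnePoint F) = ((S.o 0 s * S.n1 : G) : G ⧸ Bo S) := rfl

theorem h_T (c d : Fˣ) : S.h c d ∈ S.T := S.mem_T.2 ⟨c, d, rfl⟩

theorem o4_pt {s : F} (hs : s ≠ 0) : ((S.o 4 s : G) : G ⧸ Bo S) = pt S ((s⁻¹ : F) : OnePoint F) := by
  obtain ⟨c, hc⟩ : ∃ c : Fˣ, c = (Units.mk0 s hs)⁻¹ := ⟨_, rfl⟩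
  have e0 : S.o 4 1 = S.o 0 1 * S.n1 * S.o 0 1 := by
    rw [S.n1_word]
    have : S.o 0 1 * (S.o 0 1 * S.o 4 1 * S.o 0 1) * S.o 0 1 = (S.o 0 1 * S.o 0 1) * S.o 4 1 * (S.o 0 1 * S.o 0 1) := by
      group
    rw [this, o_sq, one_mul, mul_one]
  have e1 := S.h_o c 1 4 1
  have e2 := S.h_o c 1 0 1
  rw [chO4, hc, inv_inv, Units.val_mk0, mul_one, ← hc] at e1
  rw [chO0, mul_one] at e2
  have e3 : ((c : Fˣ) : F) = s⁻¹ := by rw [hc, Units.val_inv_eq_inv_val, Units.val_mk0]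
  rw [pt_some, QuotientGroup.eq, ← e1, e0, ← e3, ← e2]
  have e4 : (S.h c 1 * (S.o 0 1 * S.n1 * S.o 0 1) * (S.h c 1)⁻¹)⁻¹ * (S.h c 1 * S.o 0 1 * (S.h c 1)⁻¹ * S.n1) =
      S.h c 1 * (S.o 0 1)⁻¹ * (S.n1⁻¹ * (S.h c 1)⁻¹ * S.n1) := by group
  rw [e4]
  exact mul_mem (mul_mem (T_le S (h_T S _ _)) (inv_mem (U_le S (o0_J S 1)))) (T_le S (n1_T S (inv_mem (h_T S _ _))))

theorem pt_ne [Finite F] [Finite G] (hF : ∃ c : Fˣ, c ≠ 1) (hR : S.R.p = 2) (s : F) :
    pt S OnePoint.infty ≠ pt S (s : OnePoint F) := by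
  intro h
  rw [pt_infty, pt_some, QuotientGroup.eq, inv_one, one_mul] at h
  refine n1_not_mem S hF hR ?_
  have h1 := mul_mem (inv_mem (U_le S (o0_J S s))) h
  rwa [inv_mul_cancel_left] at h1

theorem pt_inj [Finite F] [Finite G] (hF : ∃ c : Fˣ, c ≠ 1) (hR : S.R.p = 2) : Function.Injective (pt S) := by
  intro z z' h
  induction z using OnePoint.rec with
  | infty =>
    induction z' using OnePoint.rec with
    | infty => rfl
    | coe s => exact absurd h (pt_ne S hF hR s)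
  | coe s =>
    induction z' using OnePoint.rec with
    | infty => exact absurd h.symm (pt_ne S hF hR s)
    | coe s' =>
      by_cases h0 : s + s' = 0
      · have h2 := S.two
        have : s = s' := by linear_combination h0 - s' * h2
        rw [this]
      · exfalso
        rw [pt_some, pt_some, QuotientGroup.eq] at h
        have e : (S.o 0 s * S.n1)⁻¹ * (S.o 0 s' * S.n1) = S.o 4 (s + s') := by
          rw [← n1_o0, ← S.o_add, n1_inv, mul_inv_rev, n1_inv, o_inv]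
          group
        rw [e] at h
        refine pt_ne S hF hR (s + s')⁻¹ ?_
        rw [← o4_pt S h0, pt_infty, QuotientGroup.eq, inv_one, one_mul]
        exact h

variable [DecidableEq F]

/-- the pairs `(g, γ)` with `g • pt z = pt (γ • z)` -/
noncomputable def Hs : Subgroup (G × GL (Fin 2) F) where
  carrier := {p | ∀ z, p.1 • pt S z = pt S (p.2 • z)}
  mul_mem' := by
    intro p q hp hq z
    rw [Prod.fst_mul, Prod.snd_mul, mul_smul, mul_smul, hq z, hp]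
  one_mem' := by
    intro z
    rw [Prod.fst_one, Prod.snd_one, one_smul, one_smul]
  inv_mem' := by
    intro p hp z
    have h1 := hp (p.2⁻¹ • z)
    rw [smul_inv_smul] at h1
    rw [Prod.fst_inv, Prod.snd_inv, ← h1, inv_smul_smul]

theorem mem_Hs {g : G} {γ : GL (Fin 2) F} : (g, γ) ∈ Hs S ↔ ∀ z, g • pt S z = pt S (γ • z) := Iff.rfl

theorem o_mem (t : F) : (S.o 0 t, upperRightHom t) ∈ Hs S := by
  rw [mem_Hs]
  intro z
  induction z using OnePoint.rec with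
  | infty =>
    rw [up_infty, pt_infty]
    change ((S.o 0 t * 1 : G) : G ⧸ Bo S) = _
    rw [QuotientGroup.eq, mul_one, mul_one]
    exact inv_mem (U_le S (o0_J S t))
  | coe s =>
    rw [up_some, pt_some, pt_some]
    change ((S.o 0 t * (S.o 0 s * S.n1) : G) : G ⧸ Bo S) = _
    rw [← mul_assoc, S.o_add, add_comm]

theorem h_mem (c d : Fˣ) : (S.h c d, dg (chO σ 0 c d)) ∈ Hs S := by
  rw [mem_Hs]
  intro z
  induction z using OnePoint.rec with
  | infty =>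
    rw [dg_infty, pt_infty]
    change ((S.h c d * 1 : G) : G ⧸ Bo S) = _
    rw [QuotientGroup.eq, mul_one, mul_one]
    exact inv_mem (T_le S (h_T S c d))
  | coe s =>
    rw [dg_some, pt_some, pt_some]
    change ((S.h c d * (S.o 0 s * S.n1) : G) : G ⧸ Bo S) = _
    rw [QuotientGroup.eq, ← S.h_o]
    have e : (S.h c d * (S.o 0 s * S.n1))⁻¹ * (S.h c d * S.o 0 s * (S.h c d)⁻¹ * S.n1) =
        S.n1⁻¹ * (S.h c d)⁻¹ * S.n1 := by group
    rw [e]
    exact T_le S (n1_T S (inv_mem (h_T S c d)))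

theorem x_mem {x : G} (hx : x ∈ J S.XZ 2 8) : (x, (1 : GL (Fin 2) F)) ∈ Hs S := by
  rw [mem_Hs]
  intro z
  rw [one_smul]
  induction z using OnePoint.rec with
  | infty =>
    rw [pt_infty]
    change ((x * 1 : G) : G ⧸ Bo S) = _
    rw [QuotientGroup.eq, mul_one, mul_one]
    exact inv_mem (U_le S (J2_J1 S hx))
  | coe s =>
    rw [pt_some]
    change ((x * (S.o 0 s * S.n1) : G) : G ⧸ Bo S) = _
    rw [QuotientGroup.eq]
    have e : (x * (S.o 0 s * S.n1))⁻¹ * (S.o 0 s * S.n1) =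
        S.n1⁻¹ * ((S.o 0 s)⁻¹ * x⁻¹ * (S.o 0 s)⁻¹⁻¹) * S.n1 := by group
    rw [e]
    refine U_le S (J2_J1 S (n1_J S ?_))
    exact S.zsys8.conj_J (by norm_num) (c := 1) (d := 8) (by norm_num) (by norm_num) (inv_mem (o0_J S s)) (inv_mem hx)

theorem n_mem : (S.n1, (wm : GL (Fin 2) F)) ∈ Hs S := by
  rw [mem_Hs]
  intro z
  induction z using OnePoint.rec with
  | infty =>
    rw [wm_infty, pt_infty, pt_some, o_zero, one_mul]
    change ((S.n1 * 1 : G) : G ⧸ Bo S) = _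
    rw [mul_one]
  | coe s =>
    by_cases hs : s = 0
    · rw [hs, wm_zero, pt_infty, pt_some, o_zero, one_mul]
      change ((S.n1 * S.n1 : G) : G ⧸ Bo S) = _
      rw [S.n1_sq]
    · rw [wm_some hs, ← o4_pt S hs, pt_some]
      change ((S.n1 * (S.o 0 s * S.n1) : G) : G ⧸ Bo S) = _
      have e : S.n1 * (S.o 0 s * S.n1) = S.o 4 s := by
        rw [← n1_o0, n1_inv, mul_assoc]
      rw [e]

theorem pan [Finite F] [Finite G] (hF : ∃ c : Fˣ, c ≠ 1) (hR : S.R.p = 2) : Pan (Hs S) where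
  scalar := fun c => by
    rw [mem_Hs]
    intro z
    rw [sc_smul, one_smul]
  ker := fun γ hγ => by
    rw [mem_Hs] at hγ
    refine scalar_of_fix fun z => ?_
    have h1 := hγ z
    rw [one_smul] at h1
    exact (pt_inj S hF hR h1).symm

theorem U_mem {u : G} (hu : u ∈ J S.XZ 1 8) : ∃ γ, (u, γ) ∈ Hs S := by
  obtain ⟨x, hx, y, hy, rfl⟩ := S.zsys8.split_ll (by norm_num) (by norm_num) hu
  have hx' : x ∈ S.XZ (2 * 0 + 1) := hx
  obtain ⟨t, rfl⟩ := (S.mem_XZ_odd 0 x).1 hx'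
  rw [Int.cast_zero]
  exact ⟨_, mul_mem (o_mem S t) (x_mem S hy)⟩

theorem T_mem {t : G} (ht : t ∈ S.T) : ∃ γ, (t, γ) ∈ Hs S := by
  obtain ⟨c, d, rfl⟩ := S.mem_T.1 ht
  exact ⟨_, h_mem S c d⟩

/-- a subgroup which contains the rank one group and the torus covers `GL₂(F)` -/
theorem cover [Finite F] [Finite G] (hF : ∃ c : Fˣ, c ≠ 1) (hR : S.R.p = 2) (L : Subgroup G) (h1 : ∀ t, S.o 0 t ∈ L)
    (h2 : S.T ≤ L) (h3 : S.n1 ∈ L) (γ : GL (Fin 2) F) : ∃ l ∈ L, (l, γ) ∈ Hs S := by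
  have h4 := gl_top ((Hs S ⊓ L.comap (MonoidHom.fst G (GL (Fin 2) F))).map (MonoidHom.snd G (GL (Fin 2) F)))
    (fun t => ⟨(S.o 0 t, upperRightHom t), ⟨o_mem S t, h1 t⟩, rfl⟩)
    (fun a => ⟨(S.h a 1, dg a), ⟨by have := h_mem S a 1; rwa [chO0] at this, h2 (h_T S a 1)⟩, rfl⟩)
    (fun c => ⟨(1, scalar (Fin 2) c), ⟨(pan S hF hR).scalar c, one_mem L⟩, rfl⟩)
    ⟨(S.n1, wm), ⟨n_mem S, h3⟩, rfl⟩
  have h5 : γ ∈ (⊤ : Subgroup (GL (Fin 2) F)) := Subgroup.mem_top _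
  rw [← h4] at h5
  obtain ⟨⟨l, γ'⟩, ⟨h6, h7⟩, rfl⟩ := h5
  exact ⟨l, h7, h6⟩

end Panel

end Cfsg.Agent.H829.GowPanel
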