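import Cfsg.Agent.H829.TwFClass
import Cfsg.Agent.H78.TeFour
import Cfsg.Agent.H340.OddLie
import Cfsg.Agent.H284.AltComp
import Cfsg.Agent.PreUniq.Cases
import Cfsg.Agent.S1072
/-!
# Involutory automorphisms with a component `2F4(q)`, `q ≥ 8` (helper829)

`main` : `X` finite simple, `x` an involutory automorphism of `X`, `D ≅ 2F4(2^(2m+1))`, `m ≥ 1`, a component of the fixed
points of `x`: `X ≅ F4(2^(2m+1))`.
-/

set_option autoImplicit false

namespace Cfsg.Agent.H829.TwFMain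

open Cfsg Cfsg.Lie Cfsg.Agent.OrdDiv Cfsg.Agent.H902 Cfsg.Agent.H829.TwFNo Cfsg.Agent.H829.TwFClass
open Cfsg.Agent.H340 (InvCF CF IsClassicalChar IsExcChar Big)

universe u v w

section real

variable {F : Type} [Field F] [Fintype F] [CharP F 2] {A : Type u} [Group A]

theorem real_g2 (e : A ≃* ↥(chevG2.group F)) (h3 : 3 ≤ Fintype.card F) : ∃ f, Art.Real .G2 2 f (Nat.card A) := by
  obtain ⟨f, hf, hF⟩ := card_two_pow (F := F)
  rw [hF] at h3
  refine ⟨f, ⟨Nat.prime_two, hf, h3, ?_⟩⟩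
  rw [Nat.card_congr e.toEquiv, (table.{0}).g2 F, hF]
  change 1 * _ = (2 ^ f) ^ 6 * (_ * _)
  ring

theorem real_f4 (e : A ≃* ↥(chevF4.group F)) : ∃ f, Art.Real .F4 2 f (Nat.card A) := by
  obtain ⟨f, hf, hF⟩ := card_two_pow (F := F)
  refine ⟨f, ⟨Nat.prime_two, hf, trivial, ?_⟩⟩
  rw [Nat.card_congr e.toEquiv, (table.{0}).f4 F _ hF]
  change 1 * _ = (2 ^ f) ^ 24 * (_ * _ * _ * _)
  ring

theorem real_e6 (e : A ≃* ↥(chevE6.group F)) : ∃ f, Art.Real .E6 2 f (Nat.card A) := by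
  obtain ⟨f, hf, hF⟩ := card_two_pow (F := F)
  refine ⟨f, ⟨Nat.prime_two, hf, trivial, ?_⟩⟩
  rw [Nat.card_congr e.toEquiv]
  change Nat.gcd 3 (2 ^ f - 1) * _ = (2 ^ f) ^ 36 * (_ * _ * _ * _ * _ * _)
  rw [(table.{0}).e6 F _ hF]
  ring

theorem real_e7 (e : A ≃* ↥(chevE7.group F)) : ∃ f, Art.Real .E7 2 f (Nat.card A) := by
  obtain ⟨f, hf, hF⟩ := card_two_pow (F := F)
  refine ⟨f, ⟨Nat.prime_two, hf, trivial, ?_⟩⟩
  rw [Nat.card_congr e.toEquiv]
  change Nat.gcd 2 (2 ^ f - 1) * _ = (2 ^ f) ^ 63 * (_ * _ * _ * _ * _ * _ * _)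
  rw [(table.{0}).e7 F _ hF]
  ring

theorem real_e8 (e : A ≃* ↥(chevE8.group F)) : ∃ f, Art.Real .E8 2 f (Nat.card A) := by
  obtain ⟨f, hf, hF⟩ := card_two_pow (F := F)
  refine ⟨f, ⟨Nat.prime_two, hf, trivial, ?_⟩⟩
  rw [Nat.card_congr e.toEquiv, (table.{0}).e8 F _ hF]
  change 1 * _ = (2 ^ f) ^ 120 * (_ * _ * _ * _ * _ * _ * _ * _)
  ring

theorem real_te6 {q : ℕ} (hq : Fintype.card F = q ^ 2) (e : A ≃* ↥(twistedE6 F q)) :
    ∃ f, Art.Real .TE6 2 f (Nat.card A) := by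
  obtain ⟨f, hf, rfl⟩ := H284.SepOrd.root_pow Nat.prime_two (by norm_num) (card_two_pow (F := F)) hq
  refine ⟨f, ⟨Nat.prime_two, hf, trivial, ?_⟩⟩
  rw [Nat.card_congr e.toEquiv]
  change Nat.gcd 3 (2 ^ f + 1) * _ = (2 ^ f) ^ 36 * (_ * _ * _ * _ * _ * _)
  rw [(table.{0}).te6 F _ (Nat.prime_two.isPrimePow.pow (by omega)) hq]
  ring

theorem real_td4 {q : ℕ} (hq : Fintype.card F = q ^ 3) (e : A ≃* ↥(twistedD4 F q)) :
    ∃ f, Art.Real .TD4 2 f (Nat.card A) := by
  obtain ⟨f, hf, rfl⟩ := H284.SepOrd.root_pow Nat.prime_two (by norm_num) (card_two_pow (F := F)) hq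
  refine ⟨f, ⟨Nat.prime_two, hf, trivial, ?_⟩⟩
  rw [Nat.card_congr e.toEquiv, (table.{0}).td4 F _ (Nat.prime_two.isPrimePow.pow (by omega)) hq]
  change 1 * _ = (2 ^ f) ^ 12 * (_ * _ * _)
  ring

end real

/-- the pairs of the table of the exceptional groups -/
theorem of_pair {m : ℕ} (hm : 1 ≤ m) {X : Type u} {D : Type v} [Group X] [Group D] (hI : Is m D)
    (h : ExcComp.Pair X D) :
    ∃ (F : Type) (_ : Field F) (_ : Fintype F), Fintype.card F = 2 ^ (2 * m + 1) ∧ Nonempty (X ≃* chevF4.group F) := by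
  have no : ∀ {Y : Art.Sh}, (∃ f, Art.Real Y 2 f (Nat.card D)) → Y ≠ .TF4 → False := by
    rintro Y ⟨f, hf⟩ hne
    exact hne (same hm hI hf).1
  rcases h with h | h | h | h | h
  · exfalso
    obtain ⟨F, F₀, _, _, _, _, _, _, hc, h⟩ := h
    rcases h with ⟨h, -, ⟨b⟩⟩ | ⟨h, -, L, _, _, hL, ⟨b⟩⟩ | ⟨-, ⟨b⟩⟩ | ⟨-, ⟨b⟩⟩ | ⟨-, ⟨b⟩⟩ | ⟨-, ⟨b⟩⟩
    · exact no (real_g2 b h) (by simp)
    · have hc3 : CharP L 3 := by
        obtain ⟨r, hr⟩ := CharP.exists L
        have hrp : r.Prime := (CharP.char_is_prime_or_zero L r).resolve_right (CharP.char_ne_zero_of_finite L r)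
        have := Fact.mk hrp
        obtain ⟨n, -, hn⟩ := FiniteField.card L r
        have h3 : r ∣ 3 ^ 2 := by rw [show 3 ^ 2 = 9 from rfl, ← hL, hn]; exact dvd_pow_self r n.ne_zero
        rw [(Nat.prime_dvd_prime_iff_eq hrp Nat.prime_three).1 (hrp.dvd_of_dvd_pow h3)] at hr
        exact hr
      exact not_lie_odd hm hI Nat.prime_three (by norm_num)
        (Or.inr (Or.inr (Or.inl ⟨L, inferInstance, inferInstance, hc3, 3, 3, hL, le_rfl, by norm_num, ⟨b⟩⟩)))
    · exact no (real_f4 b) (by simp)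
    · exact no (real_e6 b) (by simp)
    · exact no (real_e7 b) (by simp)
    · exact no (real_e8 b) (by simp)
  · exfalso
    obtain ⟨F, F₀, _, _, _, _, _, _, q, q₀, -, -, -, h4, -, ⟨b⟩⟩ := h
    exact no (real_td4 h4 b) (by simp)
  · obtain ⟨F, _, _, _, k, h1, ⟨a⟩, h2⟩ := h
    rcases h2 with ⟨h2, ⟨b⟩⟩ | ⟨h2, h3⟩
    · have h3 : Is k D := ⟨F, inferInstance, inferInstance, h1, ⟨b⟩⟩
      have h4 := (same hm hI (h3.real h2)).2
      have h5 : k = m := by omega
      subst h5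
      exact ⟨F, inferInstance, inferInstance, h1, ⟨a⟩⟩
    · have := hI.finite
      exact (not_spor hm hI (Or.inr h3) (MonoidHom.id D) Function.injective_id).elim
  · exfalso
    obtain ⟨F, _, _, _, -, ⟨q₀, h2, ⟨b⟩⟩ | ⟨⟨b⟩⟩⟩ := h
    · exact no (real_te6 h2 b) (by simp)
    · exact no (real_f4 b) (by simp)
  · exfalso
    obtain ⟨F, F₀, _, _, _, _, _, _, q, -, -, -, ⟨b⟩⟩ := h
    exact no (real_f4 b) (by simp)

/-- **Involutory automorphisms with a component `2F4(q)`.** -/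
theorem main {m : ℕ} (hm : 1 ≤ m) {X : Type u} [Group X] [Finite X] [IsSimpleGroup X] (hkn : IsKnownSimple' X)
    (hna : ¬ IsMulCommutative X)
    {x : MulAut X} (hx : x ^ 2 = 1) (hx1 : x ≠ 1) {D : Subgroup ↥(fixedSubgroup x)} (hD : IsComponent D)
    (hI : Is m ↥D) :
    ∃ (F : Type) (_ : Field F) (_ : Fintype F), Fintype.card F = 2 ^ (2 * m + 1) ∧ Nonempty (X ≃* chevF4.group F) := by
  have hxx : x * x = 1 := by rw [← pow_two, hx]
  let i : ↥D →* X := (fixedSubgroup x).subtype.comp D.subtype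
  have hi : Function.Injective i := (Subgroup.subtype_injective _).comp (Subgroup.subtype_injective _)
  rcases PreUniq.known_cases hkn with h | ⟨n, hn, ⟨e⟩⟩ | ⟨r, hr, h⟩ | h | h
  · exfalso
    apply hna
    have : Fact (Nat.card X).Prime := ⟨h⟩
    have : IsCyclic X := isCyclic_of_prime_card (p := Nat.card X) rfl
    exact ⟨⟨fun a b => (IsCyclic.commGroup (α := X)).mul_comm a b⟩⟩
  · exfalso
    obtain ⟨n', -, hn', -, -, ⟨e'⟩, -⟩ := H284.AltComp.table hn e hxx hx1 hD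
    exact not_alt hm hI hn' e'
  · by_cases hr2 : r = 2
    · subst hr2
      have key : NoComp m X → ∃ (F : Type) (_ : Field F) (_ : Fintype F), Fintype.card F = 2 ^ (2 * m + 1) ∧
          Nonempty (X ≃* chevF4.group F) := fun h => (h x hx hx1 D hD hI).elim
      have tr : ∀ {Y : Type} [Group Y], (X ≃* Y) → ¬ IsMulCommutative Y := by
        intro Y _ e hY
        exact hna ⟨⟨fun a b => e.injective (by rw [map_mul, map_mul]; exact hY.is_comm.comm _ _)⟩⟩
      rcases h with h | h | h | h | h | h | h | h | h | h | h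
      · obtain ⟨F, _, _, _, n, h1, h2, ⟨e⟩⟩ := h
        exact key ((no_psl hm h1 h2).congr e.symm)
      · obtain ⟨F, _, _, _, n, h1, h2, ⟨e⟩⟩ := h
        exact key ((no_psp hm h1 h2 (tr e)).congr e.symm)
      · obtain ⟨F, _, _, _, n, q, h1, h2, h3, ⟨e⟩⟩ := h
        exact key ((no_psu hm h1 h2 h3 (tr e)).congr e.symm)
      · obtain ⟨F, _, _, _, n, h1, h2, ⟨e⟩⟩ := h
        exfalso
        obtain ⟨c, hc, hF⟩ := card_two_pow (F := F)
        rw [hF] at h2
        exact (Nat.not_odd_iff_even.2 (Nat.even_pow.2 ⟨even_two, by omega⟩)) h2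
      · obtain ⟨F, _, _, _, n, h1, ⟨e⟩⟩ := h
        exact key ((no_plus hm h1 (tr e)).congr e.symm)
      · obtain ⟨F, _, _, _, n, a, b, h1, h2, ⟨e⟩⟩ := h
        exact key ((no_minus hm h1 h2 (tr e)).congr e.symm)
      · exact of_pair hm hI (H78.TeFour.exc_comp hna (Or.inl h) x hx hx1 D hD)
      · exact of_pair hm hI (H78.TeFour.exc_comp hna (Or.inr (Or.inl h)) x hx hx1 D hD)
      · exact of_pair hm hI (H78.TeFour.exc_comp hna (Or.inr (Or.inr (Or.inl h.2))) x hx hx1 D hD)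
      · exact of_pair hm hI (H78.TeFour.exc_comp hna (Or.inr (Or.inr (Or.inr h.2))) x hx hx1 D hD)
      · exact absurd h.1 (by norm_num)
    · exfalso
      have hcl : IsClassicalChar r X → False := by
        intro hX
        have h1 : CF (fun (S : Type u) _ => IsLieTypeChar r S) ↥(fixedSubgroup x) :=
          Cfsg.Agent.H340.cf_lie_of_classical.{u} hr hr2 hX x hxx
        have h2 := CF.component h1 hD.1 hD.2.2 hD.2.1.commutator_eq_top
        obtain ⟨F, _, _, hF, ⟨e⟩⟩ := id hI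
        obtain ⟨hs, hna'⟩ := Cfsg.Agent.S1072.result hm hF
        have hz : Subgroup.center ↥D = ⊥ := by
          have h3 := CpAut.center_eq_bot_of_simple hna'
          have h4 : (Subgroup.center ↥(twistedF4 F (2 ^ m))).map (e.symm : _ →* ↥D) = Subgroup.center ↥D :=
            SignalizersComponents.QsBasic.map_center_mulEquiv e.symm
          rw [← h4, h3, Subgroup.map_bot]
        have e' : (↥D ⧸ Subgroup.center ↥D) ≃* ↥D := (QuotientGroup.quotientMulEquivOfEq hz).trans QuotientGroup.quotientBot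
        exact not_lie_odd hm (hI.congr e') hr hr2 h2
      have hex : IsExcChar r X → False := by
        intro hX
        obtain ⟨F, _, _, hF, ⟨e⟩⟩ := hI
        exact Big.not_exc (BigTwF.big_twF hm hF) hr2 hX i hi e.toMonoidHom e.surjective (by
          have : e.toMonoidHom.ker = ⊥ := (MonoidHom.ker_eq_bot_iff _).2 e.injective
          rw [this, Subgroup.card_bot]
          exact odd_one)
      rcases h with h | h | h | h | h | h | h | h | h | h | h
      · exact hcl (Or.inl h)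
      · exact hcl (Or.inr (Or.inl h))
      · exact hcl (Or.inr (Or.inr (Or.inl h)))
      · exact hcl (Or.inr (Or.inr (Or.inr (Or.inl h))))
      · exact hcl (Or.inr (Or.inr (Or.inr (Or.inr (Or.inl h)))))
      · exact hcl (Or.inr (Or.inr (Or.inr (Or.inr (Or.inr h)))))
      · exact hex (Or.inl h)
      · exact hex (Or.inr (Or.inl h))
      · exact hr2 h.1
      · exact hr2 h.1
      · exact hex (Or.inr (Or.inr h))
  · exact (not_spor hm hI (Or.inr h) i hi).elim
  · exact (not_spor hm hI (Or.inl h) i hi).elim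

end Cfsg.Agent.H829.TwFMain
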