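import Cfsg.Agent.FixBN.RankOneU3
import Cfsg.Agent.FixBN.WittNodeC
import Cfsg.Agent.Nodes.Bruhat
import Cfsg.Agent.UGT.U2.FOne.NFLib

/-!
# No elliptic automorphism on a unitary panel (task 786, ODD-1)

`false_of_unode` : an involutory automorphism `x` exchanging `X α_i` and `X (-α_i)`, the node `i` of a root group datum
being parametrised by the group `Pt σ` of a unitary plane, fixes one of the conjugates of `X α_i` under
`⟨X α_i, X (-α_i)⟩`.
-/

set_option autoImplicit false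
set_option linter.unusedSectionVars false

namespace Cfsg.Agent.H829.UNodeEll

open CoxeterSystem Cfsg.Agent.ChevalleyStructure.CoxeterGeom Cfsg.Agent.Tits.Roots Cfsg.Agent.Tits.Core
  Cfsg.Agent.Tits.RootComb Cfsg.Agent.Nodes.Comb Cfsg.Agent.Nodes.Reps Cfsg.Agent.Nodes.BNOf
  Cfsg.Agent.Nodes.StabComb Cfsg.Agent.Nodes.Bruhat Cfsg.Agent.Nodes.RGDLib
  Cfsg.Agent.FixBN Cfsg.Agent.FixBN.U3Model Cfsg.Agent.FixBN.U3Core Cfsg.Agent.FixBN.RankOneU3
  Cfsg.Agent.UGT.U2.FOne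

variable {I W Y : Type*} [Fintype I] [DecidableEq I] [Group W] [Finite W] [Group Y] {M : CoxeterMatrix I}
  {cs : CoxeterSystem M W} {A : I → I → ℤ} {h : IsCartan M A} {p : ℕ} {T : Subgroup Y} {n : I → Y}
  {X : (I → ℤ) → Subgroup Y}

omit [Finite W] in
theorem cj_of_mem_BJ [Finite W] (R : RGD cs h p T n X) (i : I) {b : Y} (hb : b ∈ BJ cs h T X {i}) :
    cj b (X (sr i)) = X (sr i) := by
  have h1 : BJ cs h T X {i} ≤ Subgroup.normalizer (X (sr i) : Set Y) := by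
    refine sup_le ?_ (RGD.Sup_le ?_)
    · intro t ht
      rw [mem_normalizer_iff_cj]
      exact R.tor _ (isRoot_sr cs h i) t ht
    · rintro x ⟨hx, h0, hs⟩
      have h2 : x = sr i := by
        rcases root_of_supp_comm cs h (i := i) (j := i) rfl hx (fun k h1 h2 => hs k h1) with h3 | h3 | h3 | h3
        · exact h3
        · exfalso
          rw [h3] at h0
          exact (isRoot_sr cs h i).not_pos_neg (sr_nonneg i) (by simpa using h0)
        · exact h3
        · exfalso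
          rw [h3] at h0
          exact (isRoot_sr cs h i).not_pos_neg (sr_nonneg i) (by simpa using h0)
      rw [h2]
      exact Subgroup.le_normalizer
  exact mem_normalizer_iff_cj.1 (h1 hb)

theorem ne_neg (R : RGD cs h p T n X) (i : I) : X (sr i) ≠ X (-sr i) := fun e =>
  R.not_neg_le_B i (by rw [← e]; exact RGD.X_le_B (isRoot_sr cs h i) (sr_nonneg i))

theorem cj_n (R : RGD cs h p T n X) (i : I) : cj (n i) (X (sr i)) = X (-sr i) := by
  rw [R.conj i _ (isRoot_sr cs h i), rep_simple_sr]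

/-- the two root groups are conjugate in the rank one group -/
theorem exists_k (R : RGD cs h p T n X) (i : I) : ∃ k ∈ RA X (sr i), cj k (X (sr i)) = X (-sr i) := by
  obtain ⟨u, hu, hu1⟩ : ∃ u ∈ X (-sr i), u ≠ 1 := by
    by_contra hno
    push Not at hno
    apply R.not_neg_le_B i
    intro u hu
    rw [hno u hu]
    exact one_mem _
  obtain ⟨a, ha, t, ht, b, hb, e⟩ := R.rk1 i u hu hu1
  refine ⟨a⁻¹ * u, mul_mem (inv_mem (Subgroup.mem_sup_left ha)) (Subgroup.mem_sup_right hu), ?_⟩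
  have h1 : a⁻¹ * u = t * n i * b := by rw [e]; group
  rw [h1, cj_mul, cj_eq_of_mem hb, cj_mul, cj_n R, R.tor _ (isRoot_sr cs h i).neg t ht]

/-- an element of `X α_i` normalising `X (-α_i)` is trivial -/
theorem eq_one_of_cj (R : RGD cs h p T n X) (i : I) {u : Y} (hu : u ∈ X (-sr i)) (h1 : cj u (X (sr i)) = X (sr i)) :
    u = 1 := by
  by_contra hu1
  obtain ⟨a, ha, t, ht, b, hb, e⟩ := R.rk1 i u hu hu1
  rw [e, cj_mul, cj_eq_of_mem hb, cj_mul, cj_n R, cj_mul, R.tor _ (isRoot_sr cs h i).neg t ht] at h1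
  have h2 := congrArg (cj a⁻¹) h1
  rw [cj_inv_cj, cj_eq_of_mem (inv_mem ha)] at h2
  exact ne_neg R i h2.symm

variable {F : Type*} [Field F] {σ : F →+* F} [Inv2 σ]

/-- the points of the panel -/
def PP (xx : Pt σ → Y) (n : I → Y) (X : (I → ℤ) → Subgroup Y) (i : I) : Om σ → Subgroup Y
  | none => X (sr i)
  | some t => cj (xx t * n i) (X (sr i))

/-- the data -/
structure Dat (R : RGD cs h p T n X) (i : I) (xx : Pt σ → Y) : Prop where
  mul : ∀ a b, xx (a * b) = xx a * xx b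
  mem : ∀ a, xx a ∈ X (sr i)
  onto : ∀ u ∈ X (sr i), ∃ a, u = xx a
  inj : ∀ a, xx a = 1 → a = 1
  inv : ∀ a, a ≠ 1 → (xx (J a) * n i)⁻¹ * (n i * xx a * n i) ∈ RGD.B cs h T X

namespace Dat

variable {R : RGD cs h p T n X} {i : I} {xx : Pt σ → Y}

theorem one (D : Dat R i xx) : xx 1 = 1 := by
  have h1 := D.mul 1 1
  rw [mul_one] at h1
  exact left_eq_mul.1 h1

theorem xinv (D : Dat R i xx) (a : Pt σ) : xx a⁻¹ = (xx a)⁻¹ := by
  have h1 := D.mul a a⁻¹
  rw [mul_inv_cancel, D.one] at h1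
  exact (inv_eq_of_mul_eq_one_right h1.symm).symm

theorem cj_xx (D : Dat R i xx) (a : Pt σ) (z : Om σ) : cj (xx a) (PP xx n X i z) = PP xx n X i (tr a z) := by
  rcases z with _ | t
  · exact cj_eq_of_mem (D.mem a)
  · show cj (xx a) (cj (xx t * n i) (X (sr i))) = cj (xx (a * t) * n i) (X (sr i))
    rw [← cj_mul, D.mul, mul_assoc]

theorem cj_nn (D : Dat R i xx) (z : Om σ) : cj (n i) (PP xx n X i z) = PP xx n X i (jj z) := by
  rcases z with _ | t
  · rw [jj_none]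
    show cj (n i) (X (sr i)) = cj (xx 1 * n i) (X (sr i))
    rw [D.one, one_mul]
  · by_cases ht : t = 1
    · subst ht
      rw [jj_one]
      show cj (n i) (cj (xx 1 * n i) (X (sr i))) = X (sr i)
      rw [D.one, one_mul, ← cj_mul]
      exact R.tor _ (isRoot_sr cs h i) _ (R.sq_mem_T i)
    · rw [jj_some ht]
      show cj (n i) (cj (xx t * n i) (X (sr i))) = cj (xx (J t) * n i) (X (sr i))
      have hL : ∀ a, xx a ∈ LJ cs h T X {i} := fun a =>
        X_le_LJ (PosJ_subset _ (sr_mem_PosJ (Set.mem_singleton i))) (D.mem a)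
      have hn : n i ∈ LJ cs h T X {i} := n_mem_LJ R (Set.mem_singleton i)
      have hb : (xx (J t) * n i)⁻¹ * (n i * xx t * n i) ∈ BJ cs h T X {i} := by
        rw [← B_inf_LJ R]
        have h7 : (xx (J t) * n i)⁻¹ * (n i * xx t * n i) ∈ LJ cs h T X {i} :=
          mul_mem (inv_mem (mul_mem (hL _) hn)) (mul_mem (mul_mem hn (hL _)) hn)
        exact Subgroup.mem_inf.2 ⟨D.inv t ht, h7⟩
      have h1 := cj_of_mem_BJ R i hb
      have h2 := congrArg (cj (xx (J t) * n i)) h1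
      rw [← cj_mul, mul_inv_cancel_left] at h2
      rw [← cj_mul, ← mul_assoc, h2]

theorem injective (D : Dat R i xx) : Function.Injective (PP xx n X i) := by
  have h0 : ∀ t : Pt σ, X (sr i) ≠ cj (xx t * n i) (X (sr i)) := by
    intro t e
    have h1 := congrArg (cj (xx t)⁻¹) e
    rw [cj_eq_of_mem (inv_mem (D.mem t)), cj_mul, cj_inv_cj, cj_n R] at h1
    exact ne_neg R i h1
  rintro (_ | s) (_ | t) e
  · rfl
  · exact absurd e (h0 t)
  · exact absurd e.symm (h0 s)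
  · have e' : cj (xx s * n i) (X (sr i)) = cj (xx t * n i) (X (sr i)) := e
    have h1 := congrArg (cj (xx s * n i)⁻¹) e'
    rw [cj_inv_cj, ← cj_mul] at h1
    have h2 : (xx s * n i)⁻¹ * (xx t * n i) = (n i)⁻¹ * xx (s⁻¹ * t) * n i := by
      rw [D.mul, D.xinv]; group
    rw [h2] at h1
    have h3 : (n i)⁻¹ * xx (s⁻¹ * t) * n i ∈ X (-sr i) := by
      have := R.conj_mem' (rp_simple cs R.nsys i) (isRoot_sr cs h i) (D.mem (s⁻¹ * t))
      rwa [inv_simple, rep_simple_sr] at this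
    have h4 := eq_one_of_cj R i h3 h1.symm
    have h5 : xx (s⁻¹ * t) = 1 := by
      have h6 : xx (s⁻¹ * t) = n i * ((n i)⁻¹ * xx (s⁻¹ * t) * n i) * (n i)⁻¹ := by group
      rw [h6, h4]; group
    congr 1
    exact inv_mul_eq_one.1 (D.inj _ h5)

/-- the elements permuting the points -/
def Stab (xx : Pt σ → Y) (n : I → Y) (X : (I → ℤ) → Subgroup Y) (i : I) : Subgroup Y where
  carrier := {g | ∃ π : Equiv.Perm (Om σ), ∀ z, cj g (PP xx n X i z) = PP xx n X i (π z)}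
  one_mem' := ⟨1, fun z => by rw [cj_one]; rfl⟩
  mul_mem' := by
    rintro a b ⟨π, hπ⟩ ⟨ρ, hρ⟩
    exact ⟨π * ρ, fun z => by rw [cj_mul, hρ, hπ]; rfl⟩
  inv_mem' := by
    rintro a ⟨π, hπ⟩
    refine ⟨π⁻¹, fun z => ?_⟩
    have h1 := hπ (π⁻¹ z)
    rw [show π (π⁻¹ z) = z from π.apply_symm_apply z] at h1
    rw [← h1, cj_inv_cj]

theorem RA_le (D : Dat R i xx) : RA X (sr i) ≤ Stab xx n X i := by
  have hX : X (sr i) ≤ Stab xx n X i := by
    intro u hu
    obtain ⟨a, rfl⟩ := D.onto u hu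
    exact ⟨tr a, D.cj_xx a⟩
  refine sup_le hX ?_
  rw [← cj_n R]
  have hn : n i ∈ Stab xx n X i := ⟨jj, D.cj_nn⟩
  intro u hu
  have h1 := mem_cj.1 hu
  have h2 : u = n i * ((n i)⁻¹ * u * n i) * (n i)⁻¹ := by group
  rw [h2]
  exact mul_mem (mul_mem hn (hX h1)) (inv_mem hn)

theorem eq_cj (D : Dat R i xx) (z : Om σ) : ∃ k ∈ RA X (sr i), PP xx n X i z = cj k (X (sr i)) := by
  rcases z with _ | t
  · exact ⟨1, one_mem _, by rw [cj_one]; rfl⟩
  · obtain ⟨k, hk, e⟩ := exists_k R i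
    refine ⟨xx t * k, mul_mem (Subgroup.mem_sup_left (D.mem t)) hk, ?_⟩
    show cj (xx t * n i) (X (sr i)) = _
    rw [cj_mul, cj_mul, e, cj_n R]

theorem exists_of_cj (D : Dat R i xx) {k : Y} (hk : k ∈ RA X (sr i)) : ∃ z, cj k (X (sr i)) = PP xx n X i z := by
  obtain ⟨π, hπ⟩ := D.RA_le hk
  exact ⟨π none, hπ none⟩

/-- the element inducing `toPt y` -/
theorem exists_toPt (D : Dat R i xx) (y : Om σ) : ∃ k : Y, (∀ z, cj k (PP xx n X i z) = PP xx n X i (toPt y z)) ∧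
    PP xx n X i y = cj k (X (sr i)) := by
  rcases y with _ | t
  · exact ⟨1, fun z => by rw [cj_one]; rfl, by rw [cj_one]; rfl⟩
  · refine ⟨xx t * n i, fun z => ?_, rfl⟩
    rw [cj_mul, D.cj_nn, D.cj_xx]
    rfl

theorem mem_fam (D : Dat R i xx) {g : Equiv.Perm (Om σ)} {y : Om σ} :
    g ∈ u3Fam σ y ↔ ∃ u ∈ PP xx n X i y, ∀ z, cj u (PP xx n X i z) = PP xx n X i (g z) := by
  obtain ⟨k, hk, hy⟩ := D.exists_toPt y
  have hk' : ∀ z, cj k⁻¹ (PP xx n X i z) = PP xx n X i ((toPt y)⁻¹ z) := by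
    intro z
    have h1 := hk ((toPt y)⁻¹ z)
    rw [show toPt y ((toPt y)⁻¹ z) = z from (toPt y).apply_symm_apply z] at h1
    rw [← h1, cj_inv_cj]
  have key : ∀ a z, cj (k * xx a * k⁻¹) (PP xx n X i z) =
      PP xx n X i ((toPt y * tr a * (toPt y)⁻¹) z) := by
    intro a z
    rw [cj_mul, hk', cj_mul, D.cj_xx, hk]
    rfl
  constructor
  · rintro ⟨a, rfl⟩
    refine ⟨k * xx a * k⁻¹, ?_, key a⟩
    rw [hy]
    exact conj_mem_cj.2 (D.mem a)
  · rintro ⟨u, hu, h1⟩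
    rw [hy] at hu
    obtain ⟨a, ha⟩ := D.onto _ (mem_cj.1 hu)
    refine ⟨a, ?_⟩
    have h2 : u = k * xx a * k⁻¹ := by rw [← ha]; group
    apply Equiv.ext
    intro z
    apply D.injective
    rw [← h1, h2, key]

end Dat

/-- **No involutory automorphism acts without fixed points on a unitary panel.** -/
theorem exists_fixed (R : RGD cs h p T n X) (i : I) (hσ : UF σ) (xx : Pt σ → Y) (D : Dat R i xx) (x : MulAut Y)
    (hxx : ∀ g, x (x g) = g) (h1 : (X (sr i)).map x.toMonoidHom = X (-sr i)) :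
    ∃ k ∈ RA X (sr i), (cj k (X (sr i))).map x.toMonoidHom = cj k (X (sr i)) := by
  have hmm : ∀ S : Subgroup Y, (S.map x.toMonoidHom).map x.toMonoidHom = S := by
    intro S
    rw [Subgroup.map_map]
    have h2 : x.toMonoidHom.comp x.toMonoidHom = MonoidHom.id Y := MonoidHom.ext hxx
    rw [h2, Subgroup.map_id]
  have h2 : (X (-sr i)).map x.toMonoidHom = X (sr i) := by rw [← h1, hmm]
  have hRA : (RA X (sr i)).map x.toMonoidHom = RA X (sr i) := by
    rw [map_RA, h1, h2, sup_comm]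
    rfl
  have hcj : ∀ (g : Y) (S : Subgroup Y), (cj g S).map x.toMonoidHom = cj (x g) (S.map x.toMonoidHom) :=
    fun g S => (cj_map x.toMonoidHom g S).symm
  obtain ⟨k₀, hk₀, hk₀'⟩ := exists_k R i
  have hex : ∀ z, ∃ z', (PP xx n X i z).map x.toMonoidHom = PP xx n X i z' := by
    intro z
    obtain ⟨k, hk, e⟩ := D.eq_cj z
    rw [e, hcj, h1, ← hk₀', ← cj_mul]
    refine D.exists_of_cj (mul_mem ?_ hk₀)
    rw [← hRA]
    exact ⟨k, hk, rfl⟩
  choose f hf using hex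
  have hff : ∀ z, f (f z) = z := by
    intro z
    apply D.injective
    rw [← hf, ← hf, hmm]
  set th : Equiv.Perm (Om σ) := ⟨f, f, hff, hff⟩ with hth
  have hthf : ∀ z, th z = f z := fun z => rfl
  have h22 : th * th = 1 := Equiv.ext hff
  have hthi : th⁻¹ = th := rfl
  have hstep : ∀ y g, g ∈ u3Fam σ y → th * g * th⁻¹ ∈ u3Fam σ (th y) := by
    intro y g hg
    obtain ⟨u, hu, h3⟩ := D.mem_fam.1 hg
    refine D.mem_fam.2 ⟨x u, ?_, fun z => ?_⟩
    · rw [hthf, ← hf]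
      exact ⟨u, hu, rfl⟩
    · rw [hthi]
      show cj (x u) (PP xx n X i z) = PP xx n X i (f (g (f z)))
      rw [← hf, ← h3, hcj, hf (f z), hff]
  have hfam : th ∈ famStab (u3Fam σ) := by
    intro y g
    refine ⟨hstep y g, fun h3 => ?_⟩
    have h4 := hstep _ _ h3
    have h5 : th * (th * g * th⁻¹) * th⁻¹ = g := by
      rw [hthi]
      have h6 : th * (th * g * th) * th = (th * th) * g * (th * th) := by group
      rw [h6, h22, one_mul, mul_one]
    have h6 : th (th y) = y := hff y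
    rwa [h5, h6] at h4
  obtain ⟨z, hz⟩ := RankOneU3.exists_fixed hσ th hfam h22
  obtain ⟨k, hk, e⟩ := D.eq_cj z
  refine ⟨k, hk, ?_⟩
  rw [← e, hf]
  exact congrArg _ hz

/-- **(a)** -/
theorem false_of_unode (R : RGD cs h p T n X) (i : I) (hσ : UF σ) (xx : Pt σ → Y)
    (mul : ∀ a b, xx (a * b) = xx a * xx b) (mem : ∀ a, xx a ∈ X (sr i)) (onto : ∀ u ∈ X (sr i), ∃ a, u = xx a)
    (inj : ∀ a, xx a = 1 → a = 1) (inv : ∀ a, a ≠ 1 → (xx (J a) * n i)⁻¹ * (n i * xx a * n i) ∈ RGD.B cs h T X)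
    (x : MulAut Y) (hxx : ∀ g, x (x g) = g) (h1 : (X (sr i)).map x.toMonoidHom = X (-sr i))
    (ell : ∀ k ∈ RA X (sr i), (cj k (X (sr i))).map x.toMonoidHom ≠ cj k (X (sr i))) : False := by
  obtain ⟨k, hk, e⟩ := exists_fixed R i hσ xx ⟨mul, mem, onto, inj, inv⟩ x hxx h1
  exact ell k hk e

/-- **(a) for the normal form**: a node of unitary type is not in `J`. -/
theorem not_mem_J {K : Type*} [Group K] {X : (I → ℤ) → Subgroup K} {T : Subgroup K} {n : I → K} {x d : MulAut K}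
    {φ : W ≃* W} {s : I → I} {J' : Set I} {g : K} (H : NF cs h p T n X x d φ s J' g) (i : I)
    (hσ : UF σ) (xx : Pt σ → K)
    (mul : ∀ a b, xx (a * b) = xx a * xx b) (mem : ∀ a, xx a ∈ X (sr i)) (onto : ∀ u ∈ X (sr i), ∃ a, u = xx a)
    (inj : ∀ a, xx a = 1 → a = 1)
    (inv : ∀ a, a ≠ 1 → (xx (J a) * n i)⁻¹ * (n i * xx a * n i) ∈ RGD.B cs h T X) : i ∉ J' := fun hi =>
  false_of_unode H.rgd i hσ xx mul mem onto inj inv x H.xx (H.x_sr hi) (H.ell i hi)

end Cfsg.Agent.H829.UNodeEll
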